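import Groth.Agent.Lib.ProZero27.Local
import Groth.Agent.Lib.HTLoc27.Main

/-!
# Cohomology with supports of powers of an ideal is pro-zero; consequences for the quotients
-/

set_option autoImplicit false
universe u

open CategoryTheory CategoryTheory.Limits

attribute [local instance] HasDerivedCategory.standard

noncomputable section

namespace Groth.Agent.ProZero27

open Bootstrap27 Dlz27 HTLoc27

variable {A : Type u} [CommRing A] [IsNoetherianRing A] (I : Ideal A) (M : Type u) [AddCommGroup M] [Module A M]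
  [Module.Finite A M] (T : Set (PrimeSpectrum A))

/-- The map induced by an inclusion of powers. -/
abbrev hincl (i : ℕ) {n m : ℕ} (h : n ≤ m) :=
  (HT T i).map (ModuleCat.ofHom (incl I M h))

/-- The hypotheses give pro-vanishing up to one degree above `s`. -/
theorem hincl_eq_zero {ω : Dual.D A} (hω : Dual.IsDualizing A ω) (d : ℕ) (hcd : LocCoh.CdLE A I d)
    (hTI : T ⊆ PrimeSpectrum.zeroLocus (I : Set A)) (hT : StableUnderSpecialization T) (s : ℕ)
    (h4 : ∀ p r q : PrimeSpectrum A, p ≤ r → r ≤ q → ¬ I ≤ p.asIdeal → I ≤ r.asIdeal → r ∉ T → q ∈ T →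
      (s : ℕ∞) ≤ LocCoh.depth (Localization.AtPrime p.asIdeal) (LocalizedModule p.asIdeal.primeCompl M) ∨
      ((d + s : ℕ) : WithBot ℕ∞) < (LocCoh.depth (Localization.AtPrime p.asIdeal)
        (LocalizedModule p.asIdeal.primeCompl M) : WithBot ℕ∞) + Formal2.dimBetween A p.asIdeal q.asIdeal)
    (h6 : CondSix I M T s) (n : ℕ) :
    ∃ N : ℕ, n ≤ N ∧ ∀ (i : ℕ), i ≤ s + 1 → ∀ (k : ℕ) (hk : n ≤ k), N ≤ k → hincl I M T i hk = 0 := by
  let Mo := model hω
  choose m' hm' hu using exists_uniform hω Mo I M d hcd T hTI s h4 h6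
  let e := (Mo.hi - Mo.lo).toNat
  have hlen : ∀ l : LTSeries ↥T, l.length ≤ e := fun l => by
    let f : Fin (l.length + 1) → Fin (e + 1) := fun j => ⟨(deg hω Mo (l j).1 - Mo.lo).toNat, by
      have := deg_le hω Mo (l j).1
      omega⟩
    have hf : StrictMono f := fun j k hjk => by
      have := deg_strictMono hω Mo (show (l j).1 < (l k).1 from l.strictMono hjk)
      have := deg_ge hω Mo (l j).1
      show (deg hω Mo (l j).1 - Mo.lo).toNat < (deg hω Mo (l k).1 - Mo.lo).toNat
      omega
    have := Fintype.card_le_of_injective f hf.injective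
    rw [Fintype.card_fin, Fintype.card_fin] at this
    omega
  refine ⟨m'^[e + 1] n, Function.id_le_iterate_of_id_le hm' _ n, fun i hi k hk hNk => ?_⟩
  refine ModuleCat.hom_ext (LinearMap.ext fun v => ?_)
  refine map_eq_zero_of_pointwise (fun n => PM I M n) (fun k m h => incl I M h) (fun k l m _ _ => rfl) m' hm' i e
    T hT hlen (fun q hq m k h hmk => ?_) n k hk hNk v
  exact localCohomology_map_eq_zero hω Mo (incl I M h) q i fun f hf =>
    hu m q hq i hi (deg hω Mo q - i) (by omega) f hf k h hmk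

/-- The quotient by a power. -/
abbrev QM (n : ℕ) : ModuleCat.{u} A := ModuleCat.of A (M ⧸ PM I M n)

omit [IsNoetherianRing A] [Module.Finite A M] in
theorem shortExact_PM (n : ℕ) :
    (ShortComplex.moduleCatMk (PM I M n).subtype (PM I M n).mkQ
      (LinearMap.exact_subtype_mkQ _).linearMap_comp_eq_zero).ShortExact :=
  LocCohLib.shortExact_mk _ _ (Submodule.injective_subtype _) (Submodule.mkQ_surjective _)
    (LinearMap.exact_subtype_mkQ _)

omit [Module.Finite A M] in
/-- A class in the kernel comes from the power. -/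
theorem exists_preimage (i n : ℕ) (x : (HT T i).obj (ModuleCat.of A M))
    (h : (HT T i).map (ModuleCat.ofHom (PM I M n).mkQ) x = 0) :
    ∃ v : (HT T i).obj (ModuleCat.of A (PM I M n)), (HT T i).map (ModuleCat.ofHom (PM I M n).subtype) v = x := by
  obtain ⟨j, z, rfl⟩ := exists_ιT T i _ x
  rw [map_ιT] at h
  obtain ⟨j', f, hf⟩ := ιT_eq_zero T i _ j _ h
  rw [← Abelian.Ext.comp_assoc _ _ _ (zero_add i) (add_zero i) (by omega)] at hf
  obtain ⟨w, hw⟩ := Abelian.Ext.covariant_sequence_exact₂ _ (shortExact_PM I M n) _ hf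
  refine ⟨ιT T i _ j' w, ?_⟩
  rw [map_ιT]
  exact (congrArg (ιT T i (ModuleCat.of A M) j') hw).trans (ιT_le T i _ f z)

omit [IsNoetherianRing A] in
theorem comp_regroup {P Q R S U : ModuleCat.{u} A} {i : ℕ} (a : Abelian.Ext P Q 0) (z : Abelian.Ext Q R i)
    (e : Abelian.Ext R S 1) (g : Abelian.Ext S U 0) :
    (a.comp z (zero_add i)).comp (e.comp g (add_zero 1)) (rfl : i + 1 = i + 1) =
      a.comp ((z.comp e rfl).comp g (add_zero (i + 1))) (zero_add (i + 1)) := by
  rw [← Abelian.Ext.comp_assoc_of_third_deg_zero, Abelian.Ext.comp_assoc a z e (zero_add i) rfl (by omega),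
    Abelian.Ext.comp_assoc_of_third_deg_zero]

omit [Module.Finite A M] in
/-- A class on a quotient lifts when the transition map in the next degree vanishes. -/
theorem exists_lift (i : ℕ) {n l : ℕ} (h : n ≤ l) (hvan : hincl I M T (i + 1) h = 0)
    (y : (HT T i).obj (QM I M l)) :
    ∃ x : (HT T i).obj (ModuleCat.of A M), (HT T i).map (ModuleCat.ofHom (PM I M n).mkQ) x =
      (HT T i).map (ModuleCat.ofHom (AdicCompletion.transitionMap I M h)) y := by
  obtain ⟨j, z, rfl⟩ := exists_ιT T i _ y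
  let t : ModuleCat.of A (M ⧸ PM I M l) ⟶ ModuleCat.of A (M ⧸ PM I M n) :=
    ModuleCat.ofHom (AdicCompletion.transitionMap I M h)
  let φ : ShortComplex.moduleCatMk (PM I M l).subtype (PM I M l).mkQ
      (LinearMap.exact_subtype_mkQ _).linearMap_comp_eq_zero ⟶
      ShortComplex.moduleCatMk (PM I M n).subtype (PM I M n).mkQ
      (LinearMap.exact_subtype_mkQ _).linearMap_comp_eq_zero :=
    ShortComplex.homMk (ModuleCat.ofHom (incl I M h)) (𝟙 _) t
      (ModuleCat.hom_ext (LinearMap.ext fun _ => rfl)) (ModuleCat.hom_ext (LinearMap.ext fun _ => rfl))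
  have hnat := ShortComplex.ShortExact.extClass_naturality (shortExact_PM I M l) (shortExact_PM I M n) φ
  have h0 : ιT T (i + 1) (ModuleCat.of A (PM I M n)) j
      ((z.comp (shortExact_PM I M l).extClass rfl).comp (Abelian.Ext.mk₀ (ModuleCat.ofHom (incl I M h)))
        (add_zero (i + 1))) = 0 := by
    rw [← map_ιT]
    exact LinearMap.congr_fun (congrArg ModuleCat.Hom.hom hvan) _
  obtain ⟨j', f, hf⟩ := ιT_eq_zero T (i + 1) _ j _ h0
  set w := (Abelian.Ext.mk₀ ((localCohomology.ringModIdeals (Dual2.idealsInDiagram T)).map f)).comp z (zero_add i)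
  have h1 : (w.comp (Abelian.Ext.mk₀ t) (add_zero i)).comp (shortExact_PM I M n).extClass rfl = 0 := by
    refine Eq.trans ?_ hf
    rw [Abelian.Ext.comp_assoc _ _ _ (add_zero i) (zero_add 1) (by omega)]
    refine (congrArg (fun e => w.comp e rfl) hnat.symm).trans ?_
    exact comp_regroup _ z _ _
  obtain ⟨u, hu⟩ := Abelian.Ext.covariant_sequence_exact₃ _ (shortExact_PM I M n) _ rfl h1
  refine ⟨ιT T i _ j' u, ?_⟩
  rw [map_ιT, map_ιT]
  refine (congrArg (ιT T i (QM I M n) j') hu).trans ?_
  refine Eq.trans ?_ (ιT_le T i _ f _)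
  simp only [w]
  rw [Abelian.Ext.comp_assoc _ _ _ (zero_add i) (add_zero i) (by omega)]

end Groth.Agent.ProZero27
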