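import Groth.Agent.Lib.ProZero27.Main
import Groth.Prelude.Def_Formal2

/-!
# Comparison with the formal limit
-/

set_option autoImplicit false
universe u

open CategoryTheory CategoryTheory.Limits

attribute [local instance] HasDerivedCategory.standard

noncomputable section

namespace Groth.Agent.ProZero27

open Bootstrap27 Dlz27 HTLoc27

variable {A : Type u} [CommRing A] [IsNoetherianRing A] (I : Ideal A) (M : Type u) [AddCommGroup M] [Module A M]
  (T : Set (PrimeSpectrum A))

omit [IsNoetherianRing A] in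
theorem transition_comp_trans (n m : ℕ) (h : n + 1 ≤ m + 1 + 1) (h' : n + 1 ≤ m + 1) :
    (AdicCompletion.transitionMap I M h') ∘ₗ (Formal2.quotPowTrans A I M m) = AdicCompletion.transitionMap I M h := by
  refine LinearMap.ext fun z => ?_
  obtain ⟨w, rfl⟩ := Submodule.Quotient.mk_surjective _ z
  simp [Formal2.quotPowTrans]

omit [IsNoetherianRing A] in
theorem transition_refl (n : ℕ) (h : n + 1 ≤ n + 1) : (AdicCompletion.transitionMap I M h) = LinearMap.id := by
  refine LinearMap.ext fun z => ?_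
  obtain ⟨w, rfl⟩ := Submodule.Quotient.mk_surjective _ z
  simp

omit [IsNoetherianRing A] in
theorem map_apply_of_comp (F : ModuleCat.{u} A ⥤ ModuleCat.{u} A) {X Y Z : ModuleCat.{u} A} (f : X ⟶ Y) (g : Y ⟶ Z)
    (h : X ⟶ Z) (e : f ≫ g = h) (x : F.obj X) : (F.map h).hom x = (F.map g).hom ((F.map f).hom x) := by
  subst e; rw [F.map_comp]; rfl

omit [IsNoetherianRing A] in
/-- Compatible families under the successive transition maps are compatible. -/
theorem compat (F : ModuleCat.{u} A ⥤ ModuleCat.{u} A) (y : ∀ n : ℕ, F.obj (ModuleCat.of A (Formal2.quotPow A I M n)))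
    (hy : ∀ n : ℕ, (F.map (ModuleCat.ofHom (Formal2.quotPowTrans A I M n))).hom (y (n + 1)) = y n)
    (n m : ℕ) (hnm : n ≤ m) : ∀ (h : n + 1 ≤ m + 1),
    (F.map (ModuleCat.ofHom (AdicCompletion.transitionMap I M h))).hom (y m) = y n := by
  induction m, hnm using Nat.le_induction with
  | base =>
    intro h
    rw [transition_refl I M n h, ModuleCat.ofHom_id, F.map_id, ModuleCat.hom_id, LinearMap.id_apply]
  | succ m hnm ih =>
    intro h
    have h' : n + 1 ≤ m + 1 := by omega
    rw [map_apply_of_comp F (ModuleCat.ofHom (Formal2.quotPowTrans A I M m))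
      (ModuleCat.ofHom (AdicCompletion.transitionMap I M h')) (ModuleCat.ofHom (AdicCompletion.transitionMap I M h))
      (by rw [← ModuleCat.ofHom_comp, transition_comp_trans I M n m h h'])]
    rw [hy m]
    exact ih h'

/-- An element killing the coefficients kills the cohomology with supports. -/
theorem smul_HT_eq_zero (i : ℕ) (N : ModuleCat.{u} A) (a : A) (ha : ∀ z : N, a • z = 0) (v : (HT T i).obj N) :
    a • v = 0 := by
  obtain ⟨j, z, rfl⟩ := exists_ιT T i N v
  rw [← map_smul]
  refine Eq.trans ?_ (map_zero (ιT T i N j))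
  refine congrArg _ ?_
  have h0 : a • 𝟙 N = 0 := ModuleCat.hom_ext (LinearMap.ext fun w => ha w)
  have h1 : z.comp (Abelian.Ext.mk₀ (a • 𝟙 N)) (add_zero i) = a • z := by
    rw [Abelian.Ext.mk₀_smul, Abelian.Ext.comp_smul, Abelian.Ext.comp_mk₀_id]
  rw [← h1, h0, Abelian.Ext.mk₀_zero, Abelian.Ext.comp_zero]

variable [Module.Finite A M]

/-- Bijectivity to the limit of the quotients, and annihilation by a power. -/
theorem bijective_to_limit {ω : Dual.D A} (hω : Dual.IsDualizing A ω) (d : ℕ) (hcd : LocCoh.CdLE A I d)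
    (hTI : T ⊆ PrimeSpectrum.zeroLocus (I : Set A)) (hT : StableUnderSpecialization T) (s : ℕ)
    (h4 : ∀ p r q : PrimeSpectrum A, p ≤ r → r ≤ q → ¬ I ≤ p.asIdeal → I ≤ r.asIdeal → r ∉ T → q ∈ T →
      (s : ℕ∞) ≤ LocCoh.depth (Localization.AtPrime p.asIdeal) (LocalizedModule p.asIdeal.primeCompl M) ∨
      ((d + s : ℕ) : WithBot ℕ∞) < (LocCoh.depth (Localization.AtPrime p.asIdeal)
        (LocalizedModule p.asIdeal.primeCompl M) : WithBot ℕ∞) + Formal2.dimBetween A p.asIdeal q.asIdeal)
    (h6 : CondSix I M T s) (i : ℕ) (hi : i ≤ s) :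
    ((∀ x : (HT T i).obj (ModuleCat.of A M), (∀ n : ℕ, (HT T i).map (ModuleCat.ofHom (Formal2.quotPowπ A I M n)) x = 0) → x = 0) ∧
      (∀ y : (∀ n : ℕ, (HT T i).obj (ModuleCat.of A (Formal2.quotPow A I M n))),
        (∀ n : ℕ, (HT T i).map (ModuleCat.ofHom (Formal2.quotPowTrans A I M n)) (y (n + 1)) = y n) →
          ∃ x : (HT T i).obj (ModuleCat.of A M), ∀ n : ℕ, (HT T i).map (ModuleCat.ofHom (Formal2.quotPowπ A I M n)) x = y n)) ∧
    ∃ n : ℕ, ∀ a ∈ I ^ n, ∀ x : (HT T i).obj (ModuleCat.of A M), a • x = 0 := by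
  have hN := hincl_eq_zero I M T hω d hcd hTI hT s h4 h6
  obtain ⟨K, -, hK⟩ := hN 0
  have inj : ∀ x : (HT T i).obj (ModuleCat.of A M),
      (HT T i).map (ModuleCat.ofHom (Formal2.quotPowπ A I M K)) x = 0 → x = 0 := fun x hx => by
    obtain ⟨v, rfl⟩ := exists_preimage I M T i (K + 1) x hx
    have h0 : (HT T i).map (ModuleCat.ofHom (incl I M (Nat.zero_le (K + 1)))) v = 0 :=
      LinearMap.congr_fun (congrArg ModuleCat.Hom.hom (hK i (by omega) (K + 1) (Nat.zero_le _) (by omega))) v
    have he : ModuleCat.ofHom (PM I M (K + 1)).subtype =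
        ModuleCat.ofHom (incl I M (Nat.zero_le (K + 1))) ≫ ModuleCat.ofHom (PM I M 0).subtype :=
      ModuleCat.hom_ext (LinearMap.ext fun _ => rfl)
    rw [he, Functor.map_comp]
    show (HT T i).map (ModuleCat.ofHom (PM I M 0).subtype) ((HT T i).map _ v) = 0
    rw [h0, map_zero]
  have proj : ∀ {n m : ℕ} (h : n + 1 ≤ m + 1) (x : (HT T i).obj (ModuleCat.of A M)),
      (HT T i).map (ModuleCat.ofHom (AdicCompletion.transitionMap I M h))
        ((HT T i).map (ModuleCat.ofHom (Formal2.quotPowπ A I M m)) x) =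
      (HT T i).map (ModuleCat.ofHom (Formal2.quotPowπ A I M n)) x := fun {n m} h x => by
    have he : ModuleCat.ofHom (Formal2.quotPowπ A I M m) ≫ ModuleCat.ofHom (AdicCompletion.transitionMap I M h) =
        ModuleCat.ofHom (Formal2.quotPowπ A I M n) := ModuleCat.hom_ext (LinearMap.ext fun _ => rfl)
    rw [← he, Functor.map_comp]
    rfl
  refine ⟨⟨fun x hx => inj x (hx K), fun y hy => ?_⟩, K + 1, fun a ha x => inj _ ?_⟩
  · have hcomp : ∀ (n m : ℕ) (h : n + 1 ≤ m + 1),
        (HT T i).map (ModuleCat.ofHom (AdicCompletion.transitionMap I M h)) (y m) = y n := fun n m h => by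
      exact compat I M (HT T i) y hy n m (by omega) h
    have lift : ∀ n : ℕ, ∃ x : (HT T i).obj (ModuleCat.of A M),
        (HT T i).map (ModuleCat.ofHom (Formal2.quotPowπ A I M n)) x = y n := fun n => by
      obtain ⟨N, hnN, h⟩ := hN (n + 1)
      obtain ⟨m, rfl⟩ : ∃ m, N = m + 1 := ⟨N - 1, by omega⟩
      obtain ⟨x, hx⟩ := exists_lift I M T i hnN (h (i + 1) (by omega) (m + 1) hnN le_rfl) (y m)
      exact ⟨x, hx.trans (hcomp n m hnN)⟩
    choose x hx using lift
    refine ⟨x K, fun n => ?_⟩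
    have hm : x (max n K) = x K := by
      rw [← sub_eq_zero]
      refine inj _ ?_
      rw [map_sub, hx K, ← proj (show K + 1 ≤ max n K + 1 by omega), hx, hcomp _ _ _, sub_self]
    rw [← hm, ← proj (show n + 1 ≤ max n K + 1 by omega), hx, hcomp]
  · rw [map_smul]
    refine smul_HT_eq_zero T i (ModuleCat.of A (Formal2.quotPow A I M K)) a (fun z => ?_) _
    obtain ⟨w, rfl⟩ := Submodule.Quotient.mk_surjective _ z
    rw [← Submodule.Quotient.mk_smul, Submodule.Quotient.mk_eq_zero]
    exact Submodule.smul_mem_smul ha Submodule.mem_top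

end Groth.Agent.ProZero27
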