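import Groth.Agent.Lib.ExtCech.Inj
import Groth.Agent.Lib.ExtCech.Compare

/-!
# Modules of maps into an injective module are acyclic for local cohomology
-/

set_option autoImplicit false
universe u

open CategoryTheory CategoryTheory.Limits CochainComplex

noncomputable section

namespace Groth.Agent.ProZero27

open ExtCechLib InjHullLib LocCohLib

variable {R : Type u} [CommRing R] [IsNoetherianRing R]

/-- Division by powers in torsion parts. -/
def DivTors (X : ModuleCat.{u} R) : Prop :=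
  ∀ (J : Ideal R) (g : R) (n : ℕ) (m : X), m ∈ DRing.torsionSub J X →
    ∃ (M : ℕ) (m' : X), m' ∈ DRing.torsionSub J X ∧ g ^ M • (m - g ^ n • m') = 0

theorem acyclic_of_divTors (X : ModuleCat.{u} R) (hdiv : DivTors X) :
    ∀ (fs : List R) (q : ℤ), 1 ≤ q → Cy (C X fs) q ≤ Bd (C X fs) q
  | [], q, hq => fun x _ => by
    rw [X_range X [] q (Or.inr (by simp only [List.length_nil, Nat.cast_zero]; omega)) x]
    exact Submodule.zero_mem _
  | g :: fs, q, hq => fun z hz => by
    set φ := φg g (C X fs)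
    refine (SetLike.ext_iff.1 (Bd_cocone _ φ q) z).2 (acyclic_cocone q
      (fun a b ha _ => acyclic_of_divTors X hdiv fs q hq ha) (fun x hx => ?_)
      ((SetLike.ext_iff.1 (Cy_cocone _ φ q) z).1 hz))
    rcases eq_or_lt_of_le hq with hq1 | hq1
    · subst hq1
      obtain ⟨n, y, hy, hxy⟩ := exists_cycle_num rfl hx
      obtain ⟨m, rfl⟩ : ∃ m, e0 X fs m = y := (e0_bijective X fs).2 y
      have hmJ := (mem_torsionSub_span_iff X fs m).2 ((mem_Cy_zero_iff X fs m).1 hy)
      obtain ⟨M, m', hm'J, he⟩ := hdiv _ g n m hmJ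
      refine ⟨e0 X fs m', 0, (mem_Cy_zero_iff X fs m').2 ((mem_torsionSub_span_iff X fs m').1 hm'J), ?_⟩
      rw [map_zero, add_zero]
      apply (g_bijective g (C X fs) _ (M + n)).1
      simp only
      rw [pow_add, mul_smul, mul_smul, hxy]
      have : g ^ M • (e0 X fs m - g ^ n • e0 X fs m') = 0 := by
        rw [← map_smul, ← map_sub, ← map_smul, he, map_zero]
      refine sub_eq_zero.1 ?_
      rw [← smul_sub, ← map_smul (ι g (C X fs) (1 + -1)) (g ^ n), ← map_sub, ← map_smul, this, map_zero]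
    · obtain ⟨e, he⟩ := acyclic_loc (g := g) (acyclic_of_divTors X hdiv fs (q + -1) (by omega)) hx
      exact ⟨0, e, map_zero _, by rw [map_zero, zero_add]; exact he.symm⟩

theorem subsingleton_H_of_divTors (X : ModuleCat.{u} R) (hdiv : DivTors X) (I : Ideal R) (i : ℕ) (hi : 1 ≤ i) :
    Subsingleton (LocCoh.H I i X) := by
  obtain ⟨S, hS⟩ := (IsNoetherian.noetherian I : I.FG)
  have hI : Ideal.span {x : R | x ∈ S.toList} = I := by rw [← hS]; congr 1; ext; simp
  obtain ⟨e⟩ := nonempty_extCechH_equiv S.toList i X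
  have : Subsingleton (DerCA.extCechH S.toList (ModuleCat.of R X) (i : ℤ)) :=
    ModuleCat.subsingleton_of_isZero
      ((isZero_homology_iff _ (i : ℤ)).2 (acyclic_of_divTors X hdiv S.toList (i : ℤ) (by omega)))
  rw [← hI]
  exact e.symm.toEquiv.subsingleton

theorem divTors_hom (M : Type u) [AddCommGroup M] [Module R M] [Module.Finite R M] (E : ModuleCat.{u} R)
    (hE : Module.Injective R E) : DivTors (ModuleCat.of R (M →ₗ[R] E)) := by
  intro J g n f hf
  obtain ⟨k, hk⟩ := hf
  let K : ℕ →o Submodule R M :=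
    ⟨fun a => LinearMap.ker ((g ^ a) • (LinearMap.id : M →ₗ[R] M)), fun a b hab x hx => by
      have hx' : g ^ a • x = 0 := hx
      show g ^ b • x = 0
      rw [← Nat.sub_add_cancel hab, pow_add, mul_smul, hx', smul_zero]⟩
  obtain ⟨a, ha⟩ := monotone_stabilizes_iff_noetherian.2 inferInstance K
  let T := powTors J E
  have hfT : ∀ x, (show M →ₗ[R] E from f) x ∈ T := fun x =>
    mem_powTors_iff.2 ⟨k, fun r hr => LinearMap.congr_fun (hk r hr) x⟩
  let f₀ : M →ₗ[R] T := (g ^ a • (show M →ₗ[R] E from f)).codRestrict T fun x => T.smul_mem _ (hfT x)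
  have hle : K (a + n) ≤ LinearMap.ker f₀ := fun x hx => by
    rw [← ha (a + n) (Nat.le_add_right a n)] at hx
    have hx' : g ^ a • x = 0 := hx
    refine Subtype.ext ?_
    show g ^ a • (show M →ₗ[R] E from f) x = 0
    rw [← map_smul, hx', map_zero]
  obtain ⟨l, hl⟩ := Module.Injective.extension_property R T (M ⧸ K (a + n)) M
    ((K (a + n)).liftQ ((g ^ (a + n)) • (LinearMap.id : M →ₗ[R] M)) le_rfl)
    (LinearMap.ker_eq_bot.1 (Submodule.ker_liftQ_eq_bot _ _ _ le_rfl))
    ((K (a + n)).liftQ f₀ hle) (inj := injective_powTors hE J)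
  obtain ⟨j, hj⟩ : ∃ j : ℕ, ∀ r ∈ J ^ j, r • (T.subtype ∘ₗ l) = 0 := by
    classical
    obtain ⟨N, v, hv⟩ := Module.Finite.exists_fin (R := R) (M := M)
    choose j hj using fun t => mem_powTors_iff.1 (l (v t)).2
    refine ⟨Finset.univ.sup j, fun r hr => LinearMap.ext_on_range hv fun t => ?_⟩
    exact hj t r (Ideal.pow_le_pow_right (Finset.le_sup (Finset.mem_univ t)) hr)
  refine ⟨a, T.subtype ∘ₗ l, ⟨j, hj⟩, ?_⟩
  show g ^ a • ((show M →ₗ[R] E from f) - g ^ n • (T.subtype ∘ₗ l)) = 0
  refine LinearMap.ext fun x => ?_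
  have h := congrArg Subtype.val (LinearMap.congr_fun hl (Submodule.Quotient.mk x))
  change ((l (g ^ (a + n) • x) : T) : E) = g ^ a • (show M →ₗ[R] E from f) x at h
  rw [map_smul, SetLike.val_smul] at h
  show g ^ a • ((show M →ₗ[R] E from f) x - g ^ n • ((l x : T) : E)) = 0
  rw [smul_sub, ← mul_smul, ← pow_add, h, sub_self]

/-- Local cohomology of maps into an injective vanishes in positive degrees. -/
theorem subsingleton_H_hom (M : Type u) [AddCommGroup M] [Module R M] [Module.Finite R M] (E : ModuleCat.{u} R)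
    (hE : Injective E) (I : Ideal R) (i : ℕ) (hi : 1 ≤ i) : Subsingleton (LocCoh.H I i (M →ₗ[R] E)) :=
  subsingleton_H_of_divTors (ModuleCat.of R (M →ₗ[R] E))
    (divTors_hom M E ((Module.injective_iff_injective_object R E).2 hE)) I i hi

end Groth.Agent.ProZero27
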