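import Groth.Agent.Lib.LocCoh.Seq

/-!
# Lifting classes away from the torsion subcomplex
-/

set_option autoImplicit false
universe u

open CategoryTheory

noncomputable section

namespace Groth.Agent.ProZero27

open LocCohLib InjHullLib

variable {A : Type u} [CommRing A] (I : Ideal A) (S : Submonoid A)

/-- Every element is killed by an element of `S`. -/
def TorsS (X : Type u) [AddCommGroup X] [Module A X] : Prop := ∀ x : X, ∃ s ∈ S, s • x = 0

variable {S}

theorem TorsS.of_subsingleton {X : Type u} [AddCommGroup X] [Module A X] [Subsingleton X] : TorsS S X :=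
  fun _ => ⟨1, S.one_mem, Subsingleton.elim _ _⟩

theorem TorsS.of_surjective {X Y : Type u} [AddCommGroup X] [Module A X] [AddCommGroup Y] [Module A Y]
    (f : X →ₗ[A] Y) (hf : Function.Surjective f) (h : TorsS S X) : TorsS S Y := fun y => by
  obtain ⟨x, rfl⟩ := hf y
  obtain ⟨s, hs, hx⟩ := h x
  exact ⟨s, hs, by rw [← map_smul, hx, map_zero]⟩

theorem TorsS.of_equiv {X Y : Type u} [AddCommGroup X] [Module A X] [AddCommGroup Y] [Module A Y]
    (e : X ≃ₗ[A] Y) (h : TorsS S X) : TorsS S Y := h.of_surjective e.toLinearMap e.surjective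

theorem TorsS.mid {X Y Z : Type u} [AddCommGroup X] [Module A X] [AddCommGroup Y] [Module A Y]
    [AddCommGroup Z] [Module A Z] (f : X →ₗ[A] Y) (g : Y →ₗ[A] Z) (hfg : Function.Exact f g)
    (hX : TorsS S X) (hZ : TorsS S Z) : TorsS S Y := fun y => by
  obtain ⟨s, hs, hy⟩ := hZ (g y)
  rw [← map_smul] at hy
  obtain ⟨x, hx⟩ := (hfg _).1 hy
  obtain ⟨t, ht, hx'⟩ := hX x
  exact ⟨t * s, S.mul_mem ht hs, by rw [mul_smul, ← hx, ← map_smul, hx', map_zero]⟩

variable [IsNoetherianRing A] {L M N : Type u} [AddCommGroup L] [Module A L] [AddCommGroup M] [Module A M]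
  [AddCommGroup N] [Module A N] {f : L →ₗ[A] M} {g : M →ₗ[A] N}
  (hf : Function.Injective f) (hg : Function.Surjective g) (hfg : Function.Exact f g)

include hf hg hfg in
theorem torsS_H_mid (i : ℕ) (hL : TorsS S (LocCoh.H I i L)) (hN : TorsS S (LocCoh.H I i N)) :
    TorsS S (LocCoh.H I i M) :=
  TorsS.mid (hmap I i f) (hmap I i g) (exact_map_map I i (shortExact_mk f g hf hg hfg)) hL hN

include hf hg hfg in
theorem torsS_H_right (i : ℕ) (hM : TorsS S (LocCoh.H I i M)) (hL : TorsS S (LocCoh.H I (i + 1) L)) :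
    TorsS S (LocCoh.H I i N) :=
  TorsS.mid (hmap I i g) (δ I i (shortExact_mk f g hf hg hfg))
    (exact_map_δ I i (shortExact_mk f g hf hg hfg)) hM hL

variable {X : ℤ → Type u} [∀ i, AddCommGroup (X i)] [∀ i, Module A (X i)] (d : ∀ i j : ℤ, X i →ₗ[A] X j)
  (hdd : ∀ (i j k : ℤ) (x : X i), d j k (d i j x) = 0)

/-- Boundaries inside cycles. -/
def bz (i j k : ℤ) : Submodule A (LinearMap.ker (d j k)) :=
  (LinearMap.range (d i j)).comap (LinearMap.ker (d j k)).subtype

variable (lo : ℤ) (hbot : ∀ j, j < lo → Subsingleton (X j))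
  (hac : ∀ (j : ℤ) (i : ℕ), 1 ≤ i → Subsingleton (LocCoh.H I i (X j)))
  (b : ℤ) (hH : ∀ i j k : ℤ, i + 1 = j → j + 1 = k → ∀ a : ℕ, 1 ≤ a → j + a = b →
    TorsS S (LocCoh.H I (a + 1) ((LinearMap.ker (d j k)) ⧸ bz d i j k)))

include hbot hac hdd hH in
theorem torsS_range : ∀ (n : ℕ) (i j : ℤ), i + 1 = j → j < lo + n → ∀ a : ℕ, j + a = b →
    TorsS S (LocCoh.H I (a + 1) (LinearMap.range (d i j)))
  | 0, i, j, hij, hj, a, _ => by
    haveI := hbot j (by simpa using hj)
    haveI : Subsingleton (LocCoh.H I (a + 1) (LinearMap.range (d i j))) :=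
      subsingleton_of_isPowerTorsion I a _ fun z => ⟨0, fun r _ => Subsingleton.elim _ _⟩
    exact TorsS.of_subsingleton
  | n + 1, i, j, hij, hj, a, ha => by
    have hker : TorsS S (LocCoh.H I (a + 1 + 1) (LinearMap.ker (d i j))) := by
      have hex : Function.Exact
          (Submodule.inclusion (show LinearMap.range (d (i - 1) i) ≤ LinearMap.ker (d i j) by
            rintro _ ⟨x, rfl⟩; exact hdd _ _ _ x))
          (bz d (i - 1) i j).mkQ := fun z => by
        rw [Submodule.mkQ_apply, Submodule.Quotient.mk_eq_zero]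
        exact ⟨fun hz => ⟨⟨z.1, hz⟩, rfl⟩, fun ⟨w, hw⟩ => hw ▸ w.2⟩
      exact torsS_H_mid I (Submodule.inclusion_injective _) (Submodule.mkQ_surjective _) hex _
        (torsS_range n (i - 1) i (by omega) (by push_cast at hj; omega) (a + 1) (by push_cast; omega))
        (hH (i - 1) i j (by omega) hij (a + 1) (by omega) (by push_cast; omega))
    have hex : Function.Exact (LinearMap.ker (d i j)).subtype (d i j).rangeRestrict := fun z => by
      constructor
      · exact fun hz => ⟨⟨z, congrArg Subtype.val hz⟩, rfl⟩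
      · rintro ⟨w, rfl⟩; exact Subtype.ext w.2
    exact torsS_H_right I (Submodule.injective_subtype _) (d i j).surjective_rangeRestrict hex _
      (haveI := hac i (a + 1) (by omega); TorsS.of_subsingleton) hker

include hbot hac hdd hH in
/-- A cochain with torsion differential is, up to `S`, a coboundary plus a torsion cochain, provided that
cycles are torsion modulo boundaries and the higher obstructions vanish. -/
theorem exists_sub_mem_powTors
    (hzero : ∀ z : X b, d b (b + 1) z = 0 →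
      ∃ s ∈ S, ∃ k : ℕ, ∀ r ∈ I ^ k, (r * s) • z ∈ LinearMap.range (d (b - 1) b))
    (x : X b) (hx : d b (b + 1) x ∈ powTors I (X (b + 1))) :
    ∃ s ∈ S, ∃ y : X (b - 1), s • x - d (b - 1) b y ∈ powTors I (X b) := by
  classical
  set B := LinearMap.range (d (b - 1) b)
  have hB : TorsS S (LocCoh.H I 1 B) :=
    torsS_range I d hdd lo hbot hac b hH ((b - lo).toNat + 1) (b - 1) b (by omega) (by push_cast; omega) 0 (by simp)
  obtain ⟨k, hk⟩ := mem_powTors_iff.1 hx
  obtain ⟨G, hG⟩ := (IsNoetherian.noetherian (I ^ k) : (I ^ k).FG)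
  have hcyc : ∀ r ∈ G, d b (b + 1) (r • x) = 0 := fun r hr => by
    rw [map_smul]
    exact hk r (hG ▸ Submodule.subset_span hr)
  choose s hsS l hl using fun r : G => hzero _ (hcyc r.1 r.2)
  let s₀ := ∏ r, s r
  have hs₀ : s₀ ∈ S := S.prod_mem fun r _ => hsS r
  have htor : B.mkQ (s₀ • x) ∈ powTors I (X b ⧸ B) := by
    refine mem_powTors_iff.2 ⟨Finset.univ.sup l + k, fun r hr => ?_⟩
    rw [← map_smul, Submodule.mkQ_apply, Submodule.Quotient.mk_eq_zero]
    rw [pow_add] at hr
    refine Submodule.mul_induction_on hr (fun u hu v hv => ?_) fun u v hu hv => by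
      rw [add_smul]; exact B.add_mem hu hv
    rw [← hG] at hv
    induction hv using Submodule.span_induction with
    | mem w hw =>
      have h := hl ⟨w, hw⟩ u (Ideal.pow_le_pow_right (Finset.le_sup (Finset.mem_univ _)) hu)
      have he : (u * w) • s₀ • x =
          (∏ t ∈ Finset.univ.erase ⟨w, hw⟩, s t) • ((u * s ⟨w, hw⟩) • w • x) := by
        rw [show s₀ = (∏ t ∈ Finset.univ.erase ⟨w, hw⟩, s t) * s ⟨w, hw⟩ from
          (Finset.prod_erase_mul _ s (Finset.mem_univ _)).symm]
        simp only [← mul_smul]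
        congr 1
        ring
      rw [he]
      exact B.smul_mem _ h
    | zero => rw [mul_zero, zero_smul]; exact B.zero_mem
    | add v w _ _ hv hw => rw [mul_add, add_smul]; exact B.add_mem hv hw
    | smul c v _ hv =>
      rw [smul_eq_mul, mul_left_comm, mul_smul]
      exact B.smul_mem _ hv
  obtain ⟨e⟩ := nonempty_h1Equiv I B.injective_subtype B.mkQ_surjective (LinearMap.exact_subtype_mkQ B)
    (hac b 1 le_rfl)
  obtain ⟨t, ht, h0⟩ := (TorsS.of_equiv e.symm hB) (Submodule.Quotient.mk ⟨_, htor⟩)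
  rw [← Submodule.Quotient.mk_smul, Submodule.Quotient.mk_eq_zero, mem_torsImage] at h0
  obtain ⟨w, hw, hwe⟩ := h0
  have : t • s₀ • x - w ∈ B := by
    rw [← Submodule.Quotient.eq]
    rw [Submodule.coe_smul] at hwe
    exact hwe.symm
  obtain ⟨y, hy⟩ := this
  refine ⟨t * s₀, S.mul_mem ht hs₀, y, ?_⟩
  rw [mul_smul, hy, sub_sub_cancel]
  exact hw

end Groth.Agent.ProZero27
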