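import Groth.Agent.Lib.ProZero27.TorsCmp
import Groth.Agent.Lib.Dlz27.GorensteinDual
import Groth.Agent.Lib.Bootstrap27.CplKillSup

/-!
# Ideals supporting local cohomology in low degrees
-/

set_option autoImplicit false
universe u

open CategoryTheory CategoryTheory.Limits

attribute [local instance] HasDerivedCategory.standard

noncomputable section

namespace Groth.Agent.ProZero27

open HTFin27 ExtCechLib InjHullLib LocCohLib Dlz27

variable {A : Type u} [CommRing A] [IsNoetherianRing A] (I J : Ideal A) {M : Type u} [AddCommGroup M] [Module A M]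
  [Module.Finite A M] (s d : ℕ) (T : Set (PrimeSpectrum A))
  (hT : ∀ p : PrimeSpectrum A, p ∈ T ↔ ∀ q : PrimeSpectrum A, p ≤ q → I ≤ q.asIdeal → J ≤ q.asIdeal)
  (h3 : ∀ p : PrimeSpectrum A, ¬ I ≤ p.asIdeal → p ∈ T → ∃ q : PrimeSpectrum A, p ≤ q ∧ J ≤ q.asIdeal ∧
    I ≤ q.asIdeal ∧ Formal2.dimBetween A p.asIdeal q.asIdeal ≤ ((d : ℕ∞) : WithBot ℕ∞))
  (h4 : ∀ p : PrimeSpectrum A, ¬ I ≤ p.asIdeal → p ∉ T → ∀ q : PrimeSpectrum A, p ≤ q → J ≤ q.asIdeal →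
    I ≤ q.asIdeal → (s : ℕ∞) ≤ LocCoh.depth (Localization.AtPrime p.asIdeal) (LocalizedModule p.asIdeal.primeCompl M) ∨
    (((d + s : ℕ) : ℕ∞) : WithBot ℕ∞) < ((LocCoh.depth (Localization.AtPrime p.asIdeal)
      (LocalizedModule p.asIdeal.primeCompl M) : ℕ∞) : WithBot ℕ∞) + Formal2.dimBetween A p.asIdeal q.asIdeal)

include hT in
omit [IsNoetherianRing A] in
theorem mem_T_of_le {p r : PrimeSpectrum A} (hp : p ∈ T) (h : p ≤ r) : r ∈ T :=
  (hT r).2 fun q hrq hIq => (hT p).1 hp q (h.trans hrq) hIq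

include hT in
omit [IsNoetherianRing A] in
theorem le_of_mem_T {p : PrimeSpectrum A} (hp : p ∈ T) (hI : I ≤ p.asIdeal) : J ≤ p.asIdeal :=
  (hT p).1 hp p le_rfl hI

include hT in
omit [IsNoetherianRing A] in
theorem stable_T : StableUnderSpecialization T := fun x y hxy hx =>
  mem_T_of_le I J T hT hx ((PrimeSpectrum.le_iff_specializes x y).2 hxy)

include hT in
omit [IsNoetherianRing A] in
/-- An ideal with the trace of `J` on `V(I)` has zero locus inside `T`. -/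
theorem zeroLocus_subset_T {J' : Ideal A}
    (h : PrimeSpectrum.zeroLocus ((J' : Ideal A) : Set A) ∩ PrimeSpectrum.zeroLocus ((I : Ideal A) : Set A) ⊆
      PrimeSpectrum.zeroLocus ((J : Ideal A) : Set A)) :
    PrimeSpectrum.zeroLocus ((J' : Ideal A) : Set A) ⊆ T := fun p hp =>
  (hT p).2 fun q hpq hIq => h ⟨Set.Subset.trans hp hpq, hIq⟩

include hT h3 h4 in
/-- The numerical condition of the annihilator theorem. -/
theorem lt_depth_add {ω : Dual.D A} (hω : Dual.IsDualizing A ω) (p q : PrimeSpectrum A) (hp : ¬ I ≤ p.asIdeal)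
    (hpT : p ∉ T) (hq : q ∈ T) (hpq : p ≤ q) :
    (s : WithBot ℕ∞) < ((LocCoh.depth (Localization.AtPrime p.asIdeal) (LocalizedModule p.asIdeal.primeCompl M) : ℕ∞) : WithBot ℕ∞) +
      Order.krullDim (Set.Icc p q) := by
  let Mo := model hω
  have hne : p < q := lt_of_le_of_ne hpq fun h => hpT (h ▸ hq)
  have hlt := deg_strictMono hω Mo hne
  obtain ⟨q', hqq', hJq', hIq', hδ⟩ : ∃ q' : PrimeSpectrum A, q ≤ q' ∧ J ≤ q'.asIdeal ∧ I ≤ q'.asIdeal ∧
      deg hω Mo q' - deg hω Mo q ≤ d := by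
    by_cases hIq : I ≤ q.asIdeal
    · exact ⟨q, le_rfl, le_of_mem_T I J T hT hq hIq, hIq, by simp⟩
    · obtain ⟨q', h1, h2, h5, h6⟩ := h3 q hIq hq
      refine ⟨q', h1, h2, h5, ?_⟩
      rw [← Bootstrap27.krullDim_Icc_eq_dimBetween, krullDim_Icc hω Mo q q' h1] at h6
      norm_cast at h6
      omega
  have hmono := (deg_strictMono hω Mo).monotone hqq'
  rw [krullDim_Icc hω Mo p q hpq]
  cases hn : LocCoh.depth (Localization.AtPrime p.asIdeal) (LocalizedModule p.asIdeal.primeCompl M) with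
  | top => rw [← WithBot.coe_add, top_add]; exact WithBot.coe_lt_coe.2 (ENat.natCast_lt_top s)
  | coe n =>
    rcases h4 p hp hpT q' (hpq.trans hqq') hJq' hIq' with h | h
    · rw [hn] at h
      have h' : s ≤ n := by exact_mod_cast h
      exact_mod_cast (show s < n + (deg hω Mo q - deg hω Mo p).toNat by omega)
    · rw [hn, ← Bootstrap27.krullDim_Icc_eq_dimBetween, krullDim_Icc hω Mo p q' (hpq.trans hqq')] at h
      have h' : d + s < n + (deg hω Mo q' - deg hω Mo p).toNat := by exact_mod_cast h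
      exact_mod_cast (show s < n + (deg hω Mo q - deg hω Mo p).toNat by omega)

omit [Module.Finite A M] in
/-- Annihilation by `K` of the classes gives torsion for any ideal whose locus contains `T ∩ V(K)`. -/
theorem torsion_of_kills (W : DRing.Cx A) {L K : Ideal A} (hTK : T ∩ PrimeSpectrum.zeroLocus (K : Set A) ⊆ PrimeSpectrum.zeroLocus (L : Set A))
    (j : ℤ) (hK : ∀ a ∈ K, ∀ z ∈ TCy T W j, a • z ∈ TBd T W j) :
    ∀ z ∈ TCy T W j, ∃ k : ℕ, ∀ r ∈ L ^ k, r • z ∈ TBd T W j := fun z hz => by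
  obtain ⟨K', hK', hk'⟩ := hz.1
  have hok : Ok (PrimeSpectrum.zeroLocus (L : Set A)) (K' ⊔ K) := fun P hP => by
    rw [PrimeSpectrum.mem_zeroLocus, SetLike.coe_subset_coe, sup_le_iff] at hP
    exact hTK ⟨hK' hP.1, hP.2⟩
  obtain ⟨k, hk⟩ := ok_zeroLocus_iff.1 hok
  refine ⟨k, fun r hr => ?_⟩
  obtain ⟨u, hu, v, hv, rfl⟩ := Submodule.mem_sup.1 (hk hr)
  rw [add_smul, hk' u hu, zero_add]
  exact hK v hv z hz

omit [IsNoetherianRing A] in
theorem finset_inf_le_iff {ι : Type*} (S : Finset ι) (f : ι → Ideal A) (P : PrimeSpectrum A) :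
    S.inf f ≤ P.asIdeal ↔ ∃ a ∈ S, f a ≤ P.asIdeal := Ideal.IsPrime.inf_le' P.isPrime

/-- The data of a supporting ideal. -/
structure Supp (W : DRing.Cx A) (J₀ : Ideal A) : Prop where
  le : J₀ ≤ J
  trace : PrimeSpectrum.zeroLocus ((J₀ : Ideal A) : Set A) ∩ PrimeSpectrum.zeroLocus ((I : Ideal A) : Set A) =
    PrimeSpectrum.zeroLocus ((J : Ideal A) : Set A) ∩ PrimeSpectrum.zeroLocus ((I : Ideal A) : Set A)
  subset : PrimeSpectrum.zeroLocus ((J₀ : Ideal A) : Set A) ⊆ T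
  tors : ∀ j : ℕ, j ≤ s → ∀ z ∈ TCy T W j, ∃ k : ℕ, ∀ r ∈ J₀ ^ k, r • z ∈ TBd T W j
  kill : ∃ n : ℕ, ∀ j : ℕ, j ≤ s → ∀ a ∈ (J₀ * I) ^ n, ∀ z ∈ TCy T W j, a • z ∈ TBd T W j

include hT h3 h4 in
theorem exists_supp {ω : Dual.D A} (hω : Dual.IsDualizing A ω) (W : DRing.Cx A) [W.IsStrictlyGE 0]
    (hW : ∀ i, Injective (W.X i)) (e : DerivedCategory.Q.obj W ≅ Dual.inD A M) :
    ∃ J₀ : Ideal A, Supp I J s T W J₀ := by
  classical
  let Mo := model hω
  have hT' : StableUnderSpecialization (T ∪ PrimeSpectrum.zeroLocus (I : Set A)) := fun x y hxy hx => by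
    rcases hx with hx | hx
    · exact Or.inl (stable_T I J T hT hxy hx)
    · exact Or.inr (Set.Subset.trans hx ((PrimeSpectrum.le_iff_specializes x y).2 hxy))
  obtain ⟨J₁, hJ₁, hk⟩ := (annihilator_iff hω Mo M W hW e (stable_T I J T hT) hT' s).2
    fun p q hp hq hpq => lt_depth_add I J s d T hT h3 h4 hω p q (fun h => hp (Or.inr h)) (fun h => hp (Or.inl h)) hq hpq
  have hfin : J₁.minimalPrimes.Finite := J₁.finite_minimalPrimes_of_isNoetherianRing
  let S := hfin.toFinset.filter fun P => ∃ h : P.IsPrime, (⟨P, h⟩ : PrimeSpectrum A) ∈ T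
  have hsub : PrimeSpectrum.zeroLocus ((J ⊓ S.inf id : Ideal A) : Set A) ⊆ T := fun p hp => by
    rcases (Ideal.IsPrime.inf_le p.isPrime).1 hp with h | h
    · exact (hT p).2 fun q hpq _ => h.trans hpq
    · obtain ⟨P, hP, hPp⟩ := (finset_inf_le_iff S id p).1 h
      obtain ⟨-, hPp', hPT⟩ := Finset.mem_filter.1 hP
      exact mem_T_of_le I J T hT hPT hPp
  have key : T ∩ PrimeSpectrum.zeroLocus (J₁ : Set A) ⊆
      PrimeSpectrum.zeroLocus ((J ⊓ S.inf id : Ideal A) : Set A) := by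
    rintro p ⟨hpT, hp⟩
    obtain ⟨P, hP, hPp⟩ := Ideal.exists_minimalPrimes_le (J := p.asIdeal) (show J₁ ≤ p.asIdeal from hp)
    by_cases hPT : (⟨P, hP.1.1⟩ : PrimeSpectrum A) ∈ T
    · exact (inf_le_right.trans (Finset.inf_le (f := id) (Finset.mem_filter.2 ⟨hfin.mem_toFinset.2 hP, hP.1.1, hPT⟩))).trans hPp
    · rcases hJ₁ (show (⟨P, hP.1.1⟩ : PrimeSpectrum A) ∈ PrimeSpectrum.zeroLocus (J₁ : Set A) from hP.1.2) with h | h
      · exact absurd h hPT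
      · exact inf_le_left.trans (le_of_mem_T I J T hT hpT (le_trans (show I ≤ P from h) hPp))
  refine ⟨J ⊓ S.inf id, inf_le_left, ?_, hsub,
    fun j hj => torsion_of_kills T W key j fun a ha z hz => hk j hj a ha z hz, ?_⟩
  · refine Set.Subset.antisymm (fun p hp => ⟨le_of_mem_T I J T hT (hsub hp.1) hp.2, hp.2⟩)
      fun p hp => ⟨(show J ⊓ S.inf id ≤ p.asIdeal from inf_le_left.trans hp.1), hp.2⟩
  · obtain ⟨n, hn⟩ := (ok_zeroLocus_iff (I := (J ⊓ S.inf id) * I) (J := J₁)).1 fun p hp => by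
      rw [PrimeSpectrum.zeroLocus_mul]
      rcases hJ₁ hp with h | h
      · exact Or.inl (key ⟨h, hp⟩)
      · exact Or.inr h
    exact ⟨n, fun j hj a ha z hz => hk j hj a (hn ha) z hz⟩

omit [Module.Finite A M] in
/-- Elements killing classes with supports in `T` kill local cohomology for a supporting ideal. -/
theorem smul_H_eq_zero (W : DRing.Cx A) [W.IsStrictlyGE 0] [W.IsKInjective] (hW : ∀ i, Injective (W.X i))
    (e : DerivedCategory.Q.obj W ≅ Dual.inD A M) {L : Ideal A} (hLT : PrimeSpectrum.zeroLocus (L : Set A) ⊆ T)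
    (hL : ∀ j : ℕ, j ≤ s → ∀ z ∈ TCy T W j, ∃ k : ℕ, ∀ r ∈ L ^ k, r • z ∈ TBd T W j) (a : A) (i : ℕ) (hi : i ≤ s)
    (ha : ∀ z ∈ TCy T W i, a • z ∈ TBd T W i) (v : LocCoh.H L i M) : a • v = 0 := by
  revert v
  refine (smul_eq_zero_iff_cycles W e (i : ℤ) (isColimK_κI L i (ModuleCat.of A M)) a).2 fun z hz => ?_
  obtain ⟨K, hK, hk⟩ := hz.1
  obtain ⟨y, hy, hyd⟩ := (mem_TBd T W (j := (i : ℤ) - 1) (by omega)).1 (ha z ⟨⟨K, hK.trans hLT, hk⟩, hz.2⟩)
  obtain ⟨w, -, hw⟩ := exists_sub_mem W hW T L s hL ((i : ℤ) - 1) (by omega) y hy (by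
    rw [show ((i : ℤ) - 1) + 1 = (i : ℤ) by omega, show W.d ((i : ℤ) - 1) (i : ℤ) y = a • z from hyd]
    exact Submodule.smul_mem _ _ (mem_TTors_zeroLocus_iff.1 hz.1))
  refine (mem_TBd _ W (j := (i : ℤ) - 1) (by omega)).2 ⟨_, mem_TTors_zeroLocus_iff.2 hw, ?_⟩
  refine (map_sub _ _ _).trans ?_
  rw [show (dd W ((i : ℤ) - 1) (i : ℤ)) (W.d ((i : ℤ) - 1 - 1) ((i : ℤ) - 1) w) = 0 from
    LinearMap.congr_fun (congrArg ModuleCat.Hom.hom (W.d_comp_d _ _ _)) w, sub_zero]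
  exact hyd

include hT h3 h4 in
theorem exists_ideal {ω : Dual.D A} (hω : Dual.IsDualizing A ω) :
    ∃ J₀ : Ideal A, J₀ ≤ J ∧ PrimeSpectrum.zeroLocus ((J₀ : Ideal A) : Set A) ∩ PrimeSpectrum.zeroLocus ((I : Ideal A) : Set A) = PrimeSpectrum.zeroLocus ((J : Ideal A) : Set A) ∩ PrimeSpectrum.zeroLocus ((I : Ideal A) : Set A) ∧
      (∀ (J' : Ideal A) (hJ' : J' ≤ J₀), PrimeSpectrum.zeroLocus ((J' : Ideal A) : Set A) ∩ PrimeSpectrum.zeroLocus ((I : Ideal A) : Set A) = PrimeSpectrum.zeroLocus ((J : Ideal A) : Set A) ∩ PrimeSpectrum.zeroLocus ((I : Ideal A) : Set A) → ∀ i : ℕ, i ≤ s → Function.Bijective ((Dual2.HmapOfLE hJ' i).app (ModuleCat.of A M)).hom) ∧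
      (∃ n : ℕ, ∀ a ∈ (J₀ * I) ^ n, ∀ i : ℕ, i ≤ s → ∀ x : LocCoh.H J₀ i M, a • x = 0) := by
  obtain ⟨W, hW0, hWi, hWK, ⟨e⟩⟩ := exists_res_module (A := A) M
  obtain ⟨J₀, hS⟩ := exists_supp I J s d T hT h3 h4 hω W hWi e
  refine ⟨J₀, hS.le, hS.trace, fun J' hJ' htr i hi => ?_, ?_⟩
  · exact cmp_bijective W hWi T hJ' (zeroLocus_subset_T I J T hT (fun p hp => (htr.subset hp).1)) s hS.tors e i hi
  · obtain ⟨n, hn⟩ := hS.kill
    exact ⟨n, fun a ha i hi => smul_H_eq_zero s T W hWi e hS.subset hS.tors a i hi (hn i hi a ha)⟩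

include hT h3 h4 in
theorem exists_ideal_finite {ω : Dual.D A} (hω : Dual.IsDualizing A ω)
    (h2 : ∀ p : PrimeSpectrum A, I ≤ p.asIdeal → ¬ J ≤ p.asIdeal → ∀ q : PrimeSpectrum A, p ≤ q → J ≤ q.asIdeal →
      I ≤ q.asIdeal → ((s : ℕ∞) : WithBot ℕ∞) < ((LocCoh.depth (Localization.AtPrime p.asIdeal)
        (LocalizedModule p.asIdeal.primeCompl M) : ℕ∞) : WithBot ℕ∞) + Formal2.dimBetween A p.asIdeal q.asIdeal) :
    ∃ J₀ : Ideal A, (J₀ ≤ J ∧ PrimeSpectrum.zeroLocus ((J₀ : Ideal A) : Set A) ∩ PrimeSpectrum.zeroLocus ((I : Ideal A) : Set A) = PrimeSpectrum.zeroLocus ((J : Ideal A) : Set A) ∩ PrimeSpectrum.zeroLocus ((I : Ideal A) : Set A) ∧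
      (∀ (J' : Ideal A) (hJ' : J' ≤ J₀), PrimeSpectrum.zeroLocus ((J' : Ideal A) : Set A) ∩ PrimeSpectrum.zeroLocus ((I : Ideal A) : Set A) = PrimeSpectrum.zeroLocus ((J : Ideal A) : Set A) ∩ PrimeSpectrum.zeroLocus ((I : Ideal A) : Set A) → ∀ i : ℕ, i ≤ s → Function.Bijective ((Dual2.HmapOfLE hJ' i).app (ModuleCat.of A M)).hom) ∧
      (∃ n : ℕ, ∀ a ∈ (J₀ * I) ^ n, ∀ i : ℕ, i ≤ s → ∀ x : LocCoh.H J₀ i M, a • x = 0)) ∧
      ∀ i : ℕ, i ≤ s → Module.Finite A (LocCoh.H J₀ i M) := by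
  classical
  obtain ⟨W, hW0, hWi, hWK, ⟨e⟩⟩ := exists_res_module (A := A) M
  let Mo := model hω
  obtain ⟨J₀, hS⟩ := exists_supp I J s d T hT h3 h4 hω W hWi e
  obtain ⟨J₂, hJ₂, hk⟩ := (annihilator_iff hω Mo M W hWi e (stable_T I J T hT) (stable_T I J T hT) s).2
    fun p q hp hq hpq => by
      by_cases hIp : I ≤ p.asIdeal
      · rw [Bootstrap27.krullDim_Icc_eq_dimBetween]
        exact h2 p hIp (fun h => hp ((hT p).2 fun q' hq' _ => h.trans hq')) q hpq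
          (le_of_mem_T I J T hT hq (hIp.trans hpq)) (hIp.trans hpq)
      · exact lt_depth_add I J s d T hT h3 h4 hω p q hIp hp hq hpq
  obtain ⟨n, hn⟩ := hS.kill
  refine ⟨J₀, ⟨hS.le, hS.trace, fun J' hJ' htr i hi => cmp_bijective W hWi T hJ'
    (zeroLocus_subset_T I J T hT (fun p hp => (htr.subset hp).1)) s hS.tors e i hi,
    n, fun a ha i hi => smul_H_eq_zero s T W hWi e hS.subset hS.tors a i hi (hn i hi a ha)⟩, fun i hi => ?_⟩
  let Jk := J₂ ⊔ (J₀ * I) ^ n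
  have hok : Ok (VI J₀) Jk := fun p hp => by
    rw [PrimeSpectrum.mem_zeroLocus, SetLike.coe_subset_coe, sup_le_iff] at hp
    have h1 : p ∈ T := hJ₂ hp.1
    rcases n with _ | n
    · exact absurd (top_le_iff.1 (by simpa using hp.2)) p.isPrime.ne_top
    rcases (Ideal.IsPrime.mul_le p.isPrime).1 ((Ideal.IsPrime.pow_le_iff (hP := p.isPrime) (Nat.succ_ne_zero n)).1 hp.2) with h | h
    · exact h
    · exact hS.le.trans (le_of_mem_T I J T hT h1 h)
  have hAnn : ∀ j : ℕ, j ≤ s → ∀ a ∈ Jk, ∀ v : LocCoh.H J₀ j M, a • v = 0 := fun j hj a ha => by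
    refine smul_H_eq_zero s T W hWi e hS.subset hS.tors a j hj fun z hz => ?_
    obtain ⟨u, hu, v, hv, rfl⟩ := Submodule.mem_sup.1 ha
    rw [add_smul]
    exact add_mem (hk j hj u hu z hz) (hn j hj v hv z hz)
  have hWm : ∀ i, Module.Injective A (W.X i) := fun i => (Module.injective_iff_injective_object A _).2 (hWi i)
  have hH : ∀ m, FinH W m := fun m => by
    obtain ⟨l⟩ := RGamma27.HD_iso (K := W) m
    let l' : Dual.HD A (DerivedCategory.Q.obj W) m ≃ₗ[A] Dual.HD A (Dual.inD A M) m :=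
      ((DerivedCategory.homologyFunctor (ModuleCat.{u} A) m).mapIso e).toLinearEquiv
    haveI := finite_HD_inD A M m
    exact finH_of_finite W m (Module.Finite.equiv (l'.symm.trans l))
  obtain ⟨G, hG⟩ := (IsNoetherian.noetherian Jk : Jk.FG)
  have hgens : Ideal.span {y : A | y ∈ G.toList} = Jk := by rw [← hG]; congr 1; ext; simp
  refine (finite_iff (VI J₀) W e (i : ℤ) (isColimK_κI J₀ i (ModuleCat.of A M))).2
    (finT_of_annT (VI J₀) Jk hok G.toList hgens G.toList (fun g hg => hgens ▸ Ideal.subset_span hg) W 0 hWm hH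
      (fun g hg => Or.inl hg) (i : ℤ) 1 one_pos (fun m hm => ?_) (i : ℤ) le_rfl)
  rw [pow_one]
  rcases lt_or_ge m 0 with h | h
  · intro z _ c _
    haveI := ModuleCat.subsingleton_of_isZero (W.isZero_of_isStrictlyGE 0 m h)
    rw [Subsingleton.elim (c • z) 0]
    exact zero_mem _
  · obtain ⟨j, rfl⟩ : ∃ j : ℕ, m = j := ⟨m.toNat, by omega⟩
    exact (annT_iff (VI J₀) W e (j : ℤ) (isColimK_κI J₀ j (ModuleCat.of A M)) Jk).2 (hAnn j (by omega))

include hT h3 h4 in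
theorem exists_ideal_sup {ω : Dual.D A} (hω : Dual.IsDualizing A ω)
    (h6 : ∀ p : PrimeSpectrum A, ¬ I ≤ p.asIdeal → p ∈ T →
      (s : ℕ∞) < LocCoh.depth (Localization.AtPrime p.asIdeal) (LocalizedModule p.asIdeal.primeCompl M)) :
    ∃ (J₀ : Ideal A) (hJ₀ : J₀ ≤ J), (J₀ ≤ J ∧ PrimeSpectrum.zeroLocus ((J₀ : Ideal A) : Set A) ∩ PrimeSpectrum.zeroLocus ((I : Ideal A) : Set A) = PrimeSpectrum.zeroLocus ((J : Ideal A) : Set A) ∩ PrimeSpectrum.zeroLocus ((I : Ideal A) : Set A) ∧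
      (∀ (J' : Ideal A) (hJ' : J' ≤ J₀), PrimeSpectrum.zeroLocus ((J' : Ideal A) : Set A) ∩ PrimeSpectrum.zeroLocus ((I : Ideal A) : Set A) = PrimeSpectrum.zeroLocus ((J : Ideal A) : Set A) ∩ PrimeSpectrum.zeroLocus ((I : Ideal A) : Set A) → ∀ i : ℕ, i ≤ s → Function.Bijective ((Dual2.HmapOfLE hJ' i).app (ModuleCat.of A M)).hom) ∧
      (∃ n : ℕ, ∀ a ∈ (J₀ * I) ^ n, ∀ i : ℕ, i ≤ s → ∀ x : LocCoh.H J₀ i M, a • x = 0)) ∧
      (∀ i : ℕ, i ≤ s → Function.Bijective ((Dual2.HmapOfLE hJ₀ i).app (ModuleCat.of A M)).hom ∧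
        Function.Bijective ((Dual2.HmapOfLE (le_sup_left : J ≤ J ⊔ I) i).app (ModuleCat.of A M)).hom) ∧
      ∃ n : ℕ, ∀ a ∈ I ^ n, ∀ i : ℕ, i ≤ s → ∀ x : LocCoh.H J i M, a • x = 0 := by
  obtain ⟨W, hW0, hWi, hWK, ⟨e⟩⟩ := exists_res_module (A := A) M
  let Mo := model hω
  obtain ⟨J₀, hS⟩ := exists_supp I J s d T hT h3 h4 hω W hWi e
  have hVI : StableUnderSpecialization (PrimeSpectrum.zeroLocus (I : Set A)) := fun x y hxy hx =>
    Set.Subset.trans hx ((PrimeSpectrum.le_iff_specializes x y).2 hxy)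
  obtain ⟨J₁, hJ₁, hk⟩ := (annihilator_iff hω Mo M W hWi e (stable_T I J T hT) hVI s).2 fun p q hp hq hpq => by
    by_cases hpT : p ∈ T
    · rw [krullDim_Icc hω Mo p q hpq]
      cases hn : LocCoh.depth (Localization.AtPrime p.asIdeal) (LocalizedModule p.asIdeal.primeCompl M) with
      | top => rw [← WithBot.coe_add, top_add]; exact WithBot.coe_lt_coe.2 (ENat.natCast_lt_top s)
      | coe n =>
        have h' := h6 p hp hpT
        rw [hn] at h'
        have h'' : s < n := by exact_mod_cast h'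
        exact_mod_cast (show s < n + (deg hω Mo q - deg hω Mo p).toNat by omega)
    · exact lt_depth_add I J s d T hT h3 h4 hω p q hp hpT hq hpq
  have hsup : ∀ j : ℕ, j ≤ s → ∀ z ∈ TCy T W j, ∃ k : ℕ, ∀ r ∈ (J ⊔ I) ^ k, r • z ∈ TBd T W j := fun j hj =>
    torsion_of_kills T W (fun p hp => by
      rw [PrimeSpectrum.mem_zeroLocus, SetLike.coe_subset_coe, sup_le_iff]
      exact ⟨le_of_mem_T I J T hT hp.1 (hJ₁ hp.2), hJ₁ hp.2⟩) j fun a ha z hz => hk j hj a ha z hz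
  have htJ : ∀ j : ℕ, j ≤ s → ∀ z ∈ TCy T W j, ∃ k : ℕ, ∀ r ∈ J ^ k, r • z ∈ TBd T W j := fun j hj z hz => by
    obtain ⟨k, hk⟩ := hsup j hj z hz
    exact ⟨k, fun r hr => hk r (Ideal.pow_right_mono le_sup_left k hr)⟩
  have hJT : PrimeSpectrum.zeroLocus (J : Set A) ⊆ T := zeroLocus_subset_T I J T hT Set.inter_subset_left
  obtain ⟨n, hn⟩ := hS.kill
  obtain ⟨m, hm⟩ := (ok_zeroLocus_iff (I := I) (J := J₁)).1 hJ₁
  refine ⟨J₀, hS.le, ⟨hS.le, hS.trace, fun J' hJ' htr i hi => cmp_bijective W hWi T hJ'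
    (zeroLocus_subset_T I J T hT (fun p hp => (htr.subset hp).1)) s hS.tors e i hi,
    n, fun a ha i hi => smul_H_eq_zero s T W hWi e hS.subset hS.tors a i hi (hn i hi a ha)⟩,
    fun i hi => ⟨cmp_bijective W hWi T hS.le hS.subset s htJ e i hi, cmp_bijective W hWi T le_sup_left hJT s hsup e i hi⟩,
    m, fun a ha i hi => smul_H_eq_zero s T W hWi e hJT htJ a i hi fun z hz => hk i hi a (hm ha) z hz⟩

end Groth.Agent.ProZero27
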