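import Groth.Agent.Lib.ProZero27.Pointwise
import Groth.Agent.Lib.HTLoc27.Loc
import Groth.Agent.Lib.Dlz27.LocalDual
import Groth.Agent.Lib.Dlz27.Shift

/-!
# Uniform vanishing of the pointwise maps on local cohomology
-/

set_option autoImplicit false
universe u

open CategoryTheory CategoryTheory.Limits IsLocalRing

attribute [local instance] HasDerivedCategory.standard

noncomputable section

namespace Groth.Agent.ProZero27

open LocCohLib InjHullLib Bootstrap27 Dlz27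

variable {A : Type u} [CommRing A] [IsNoetherianRing A] {ω : Dual.D A} (hω : Dual.IsDualizing A ω) (Mo : Model ω)
  (I : Ideal A) (M : Type u) [AddCommGroup M] [Module A M] [Module.Finite A M]

/-- `I^n M` -/
abbrev PM (n : ℕ) : Submodule A M := I ^ n • (⊤ : Submodule A M)

/-- The inclusion of a higher power. -/
abbrev incl {n m : ℕ} (h : n ≤ m) : PM I M m →ₗ[A] PM I M n :=
  Submodule.inclusion (Submodule.smul_mono_left (Ideal.pow_le_pow_right h))

variable (d : ℕ) (hcd : LocCoh.CdLE A I d) (T : Set (PrimeSpectrum A))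
  (hTI : T ⊆ PrimeSpectrum.zeroLocus (I : Set A)) (s : ℕ)
  (h4 : ∀ p r q : PrimeSpectrum A, p ≤ r → r ≤ q → ¬ I ≤ p.asIdeal → I ≤ r.asIdeal → r ∉ T → q ∈ T →
    (s : ℕ∞) ≤ LocCoh.depth (Localization.AtPrime p.asIdeal) (LocalizedModule p.asIdeal.primeCompl M) ∨
    ((d + s : ℕ) : WithBot ℕ∞) < (LocCoh.depth (Localization.AtPrime p.asIdeal)
      (LocalizedModule p.asIdeal.primeCompl M) : WithBot ℕ∞) + Formal2.dimBetween A p.asIdeal q.asIdeal)
  (h6 : CondSix I M T s)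

include hω in
/-- The kernels of restriction stabilise. -/
theorem exists_stable (n : ℕ) (b : ℤ) :
    ∃ N : ℕ, n ≤ N ∧ ∀ f : PM I M n →ₗ[A] Mo.W.X b, (Mo.W.d b (b + 1)).hom ∘ₗ f = 0 →
      ∀ (m : ℕ) (hm : n ≤ m) (g : PM I M m →ₗ[A] Mo.W.X (b - 1)),
        (Mo.W.d (b - 1) b).hom ∘ₗ g = f ∘ₗ incl I M hm →
          ∀ (k : ℕ) (hk : n ≤ k), N ≤ k → ∃ g' : PM I M k →ₗ[A] Mo.W.X (b - 1),
            (Mo.W.d (b - 1) b).hom ∘ₗ g' = f ∘ₗ incl I M hk := by
  haveI := finite_Eh hω Mo (PM I M n) (b - 1) b (b + 1) (by omega) rfl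
  let Z := LinearMap.ker (dH Mo (PM I M n) b (b + 1))
  let K : ℕ →o Submodule A Z :=
    ⟨fun t => (LinearMap.range (dH Mo (PM I M (n + t)) (b - 1) b)).comap
        (LinearMap.lcomp A (Mo.W.X b) (incl I M (Nat.le_add_right n t)) ∘ₗ Z.subtype),
      fun t t' htt' z ⟨g, hg⟩ => ⟨g ∘ₗ incl I M (Nat.add_le_add_left htt' n), by
        show (Mo.W.d (b - 1) b).hom ∘ₗ g ∘ₗ incl I M (Nat.add_le_add_left htt' n) =
          z.1 ∘ₗ incl I M (Nat.le_add_right n t')
        rw [← LinearMap.comp_assoc, show (Mo.W.d (b - 1) b).hom ∘ₗ g = z.1 ∘ₗ incl I M (Nat.le_add_right n t) from hg]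
        rfl⟩⟩
  have hB : ∀ t, bz (dH Mo (PM I M n)) (b - 1) b (b + 1) ≤ K t := fun t z ⟨g, hg⟩ =>
    ⟨g ∘ₗ incl I M (Nat.le_add_right n t), by
      show (Mo.W.d (b - 1) b).hom ∘ₗ g ∘ₗ incl I M (Nat.le_add_right n t) = z.1 ∘ₗ incl I M (Nat.le_add_right n t)
      rw [← LinearMap.comp_assoc, show (Mo.W.d (b - 1) b).hom ∘ₗ g = z.1 from hg]⟩
  obtain ⟨t₀, ht₀⟩ := monotone_stabilizes_iff_noetherian.2
    (inferInstance : IsNoetherian A (Eh Mo (PM I M n) (b - 1) b (b + 1)))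
    ⟨fun t => (K t).map (bz (dH Mo (PM I M n)) (b - 1) b (b + 1)).mkQ,
      fun t t' h => Submodule.map_mono (K.monotone h)⟩
  refine ⟨n + t₀, Nat.le_add_right n t₀, fun f hf m hm g hg k hk hNk => ?_⟩
  obtain ⟨t, rfl⟩ : ∃ t, m = n + t := ⟨m - n, by omega⟩
  have h1 : (⟨f, hf⟩ : Z) ∈ K (max t t₀) := K.monotone (le_max_left t t₀) ⟨g, hg⟩
  have h2 : Submodule.mkQ (bz (dH Mo (PM I M n)) (b - 1) b (b + 1)) ⟨f, hf⟩ ∈
      (K t₀).map (bz (dH Mo (PM I M n)) (b - 1) b (b + 1)).mkQ := by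
    have := ht₀ (max t t₀) (le_max_right t t₀)
    exact this.ge (Submodule.mem_map_of_mem h1)
  obtain ⟨z, hz, hze⟩ := h2
  rw [Submodule.mkQ_apply, Submodule.mkQ_apply, Submodule.Quotient.eq] at hze
  have h3 : (⟨f, hf⟩ : Z) ∈ K t₀ := by
    have := (K t₀).sub_mem hz (hB t₀ hze)
    rwa [sub_sub_cancel] at this
  obtain ⟨g', hg'⟩ := h3
  refine ⟨g' ∘ₗ incl I M hNk, ?_⟩
  rw [← LinearMap.comp_assoc, show (Mo.W.d (b - 1) b).hom ∘ₗ g' = f ∘ₗ incl I M (Nat.le_add_right n t₀) from hg']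
  rfl

include hω hcd hTI h4 h6 in
/-- A bound uniform in the prime. -/
theorem exists_uniform (n : ℕ) : ∃ N : ℕ, n ≤ N ∧ ∀ q ∈ T, ∀ i : ℕ, i ≤ s + 1 → ∀ (b : ℤ), b + i = deg hω Mo q →
    ∀ f : PM I M n →ₗ[A] Mo.W.X b, (Mo.W.d b (b + 1)).hom ∘ₗ f = 0 → ∀ (k : ℕ) (hk : n ≤ k), N ≤ k →
      ∃ (t : q.asIdeal.primeCompl) (g : PM I M k →ₗ[A] Mo.W.X (b - 1)),
        (Mo.W.d (b - 1) b).hom ∘ₗ g = (t : A) • (f ∘ₗ incl I M hk) := by
  choose N hnN hN using fun b => exists_stable hω Mo I M n b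
  refine ⟨max n ((Finset.Icc (Mo.lo - (s + 1)) Mo.hi).sup N), le_max_left _ _,
    fun q hq i hi b hb f hf k hk hNk => ?_⟩
  obtain ⟨m, hm, t, g, hg⟩ := exists_coboundary hω Mo M I d hcd T hTI s h4 h6 q hq i hi n b hb f hf
  have hb' : b ∈ Finset.Icc (Mo.lo - (s + 1)) Mo.hi := by
    have := deg_ge hω Mo q
    have := deg_le hω Mo q
    rw [Finset.mem_Icc]
    omega
  obtain ⟨g', hg'⟩ := hN b ((t : A) • f) (by rw [LinearMap.comp_smul, hf, smul_zero]) m hm g
    (by rw [hg, LinearMap.smul_comp]) k hk ((Finset.le_sup hb').trans ((le_max_right _ _).trans hNk))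
  exact ⟨t, g', by rw [hg', LinearMap.smul_comp]⟩

variable {N N' : Type u} [AddCommGroup N] [Module A N] [Module.Finite A N] [AddCommGroup N'] [Module A N']
  [Module.Finite A N'] (c : N' →ₗ[A] N)

/-- The two models of the localized differential. -/
theorem cocycle_pre {R : Type u} [CommRing R] {ω' : Dual.D R} (Mq : Model ω') {X Y : Type u} [AddCommGroup X]
    [Module R X] [AddCommGroup Y] [Module R Y] (ρ : X →ₗ[R] Y) {j : ℤ} (f : Y →ₗ[R] Mq.W.X j)
    (hf : (Mq.W.d j (j + 1)).hom ∘ₗ f = 0) :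
    (DerivedCategory.singleFunctor (ModuleCat.{u} R) 0).map (ModuleCat.ofHom ρ) ≫ cl Mq f hf =
      cl Mq (f ∘ₗ ρ) (by rw [← LinearMap.comp_assoc, hf, LinearMap.zero_comp]) :=
  (Category.assoc _ _ _).symm.trans (congrArg (· ≫ _) (RGamma27.el_precomp _ _ (ModuleCat.hom_ext hf)).symm)

include hω in
/-- The map on local cohomology at `q` vanishes when cocycles pull back to coboundaries. -/
theorem localCohomology_map_eq_zero (q : PrimeSpectrum A) (i : ℕ)
    (h : ∀ f : N →ₗ[A] Mo.W.X (deg hω Mo q - i), (Mo.W.d (deg hω Mo q - i) (deg hω Mo q - i + 1)).hom ∘ₗ f = 0 →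
      ∃ (t : q.asIdeal.primeCompl) (g : N' →ₗ[A] Mo.W.X (deg hω Mo q - i - 1)),
        (Mo.W.d (deg hω Mo q - i - 1) (deg hω Mo q - i)).hom ∘ₗ g = (t : A) • (f ∘ₗ c)) :
    (localCohomology (IsLocalRing.maximalIdeal (Localization.AtPrime q.asIdeal)) i).map
      (ModuleCat.ofHom (LocalizedModule.map q.asIdeal.primeCompl c)) = 0 := by
  set S := q.asIdeal.primeCompl with hS
  set b := deg hω Mo q - (i : ℤ) with hbdef
  let R := Localization S
  haveI : IsNoetherianRing R := IsLocalization.isNoetherianRing S _ inferInstance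
  let ω' := (omegaAt Mo q)⟦deg hω Mo q⟧
  have hω' : Dual.IsDualizing R ω' := isDualizing_shift (isDualizing_omegaAt hω Mo q) _
  let Mn := model hω'
  let Mq := locModel Mo S
  let ρ := LocalizedModule.map S c
  haveI : Module.Finite R (LocalizedModule S N) :=
    Module.Finite.of_isLocalizedModule S (LocalizedModule.mkLinearMap S N)
  haveI : Module.Finite R (LocalizedModule S N') :=
    Module.Finite.of_isLocalizedModule S (LocalizedModule.mkLinearMap S N')
  -- morphisms into the localized complex vanish after pulling back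
  have key : ∀ ψ : Dual.inD R (LocalizedModule S N) ⟶ (omegaAt Mo q)⟦b⟧,
      (DerivedCategory.singleFunctor (ModuleCat.{u} R) 0).map (ModuleCat.ofHom ρ) ≫ ψ = 0 := by
    intro ψ
    obtain ⟨f', hf', rfl⟩ := cl_surjective Mq (N := LocalizedModule S N) ψ
    refine (cocycle_pre Mq ρ f' hf').trans ((cl_eq_zero_iff Mq _ _).2 ?_)
    let f'' : (ModuleCat.of A N).localizedModule S →ₗ[R] (Mo.W.X b).localizedModule S :=
      f' ∘ₗ (HTLoc27.eL S (ModuleCat.of A N)).inv.hom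
    obtain ⟨g, u, hg⟩ := lift_hom (Mo.W.X b) S N f''
    obtain ⟨v, hv⟩ := kill_hom (Mo.W.X (b + 1)) S ((Mo.W.d b (b + 1)).hom ∘ₗ g) fun x => by
      show mkL S (Mo.W.X (b + 1)) (Mo.W.d b (b + 1) (g x)) = 0
      rw [← dL_mkL, hg, dL_smul]
      refine (congrArg ((u : A) • ·) ?_).trans (smul_zero _)
      exact LinearMap.congr_fun hf' _
    obtain ⟨t, k, hk⟩ := h ((v : A) • g) (by rw [LinearMap.comp_smul]; exact hv)
    obtain ⟨w, hw⟩ : IsUnit (algebraMap A R ((t : A) * v * u)) := IsLocalization.map_units R (t * v * u)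
    refine ⟨((↑w⁻¹ : R) • mapL S (Mo.W.X (b - 1)) k : (ModuleCat.of A N').localizedModule S →ₗ[R]
      (Mo.W.X (b - 1)).localizedModule S) ∘ₗ (HTLoc27.eL S (ModuleCat.of A N')).hom.hom, ?_⟩
    refine LinearMap.ext fun y => ?_
    have hy : f' (ρ y) = f'' ((locF S).map (ModuleCat.ofHom c) ((HTLoc27.eL S (ModuleCat.of A N')).hom y)) := by
      have h1 := LinearMap.congr_fun (congrArg ModuleCat.Hom.hom
        (HTLoc27.eL_natural S (ModuleCat.ofHom c : ModuleCat.of A N' ⟶ ModuleCat.of A N))) y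
      refine Eq.trans ?_ (congrArg f'' h1)
      show f' (ρ y) = f' ((HTLoc27.eL S (ModuleCat.of A N)).inv.hom ((HTLoc27.eL S (ModuleCat.of A N)).hom (ρ y)))
      rw [Iso.hom_inv_id_apply]
    show dL S Mo.W (b - 1) b ((↑w⁻¹ : R) • mapL S (Mo.W.X (b - 1)) k ((HTLoc27.eL S (ModuleCat.of A N')).hom y)) =
      f' (ρ y)
    rw [hy, map_smul]
    generalize (HTLoc27.eL S (ModuleCat.of A N')).hom y = z
    suffices h2 : (↑w⁻¹ : R) • (dL S Mo.W (b - 1) b ∘ₗ mapL S (Mo.W.X (b - 1)) k) =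
        f'' ∘ₗ ((locF S).map (ModuleCat.ofHom c : ModuleCat.of A N' ⟶ ModuleCat.of A N)).hom from
      LinearMap.congr_fun h2 z
    refine ext_mkL S (Mo.W.X b) fun x => ?_
    have step : mkL S (Mo.W.X b) (Mo.W.d (b - 1) b (k x)) =
        (w : R) • f'' (mkL S (ModuleCat.of A N) (c x)) := by
      rw [show Mo.W.d (b - 1) b (k x) = (t : A) • (v : A) • g (c x) from LinearMap.congr_fun hk x, map_smul,
        map_smul, hg, hw, algebraMap_smul_loc, smul_smul, smul_smul]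
    show (↑w⁻¹ : R) • dL S Mo.W (b - 1) b (mapL S (Mo.W.X (b - 1)) k (mkL S (ModuleCat.of A N') x)) =
      f'' ((locF S).map (ModuleCat.ofHom c : ModuleCat.of A N' ⟶ ModuleCat.of A N) (mkL S (ModuleCat.of A N') x))
    rw [mapL_mkL, dL_mkL, step, smul_smul, Units.inv_mul, one_smul]
    exact congrArg f'' (locF_map_mk S (ModuleCat.ofHom c : ModuleCat.of A N' ⟶ ModuleCat.of A N) x).symm
  refine ModuleCat.hom_ext (LinearMap.ext fun x => ?_)
  refine (bij_finite Mn hω' (isNormalized_omegaAt hω Mo q) (LocalizedModule S N) i).1 ?_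
  refine (phi_map Mn i (ModuleCat.ofHom ρ) x).trans ?_
  refine Eq.trans ?_ (map_zero (phi Mn (ModuleCat.of R (LocalizedModule S N)) i)).symm
  refine LinearMap.ext fun ψ => ?_
  rw [LinearMap.comp_apply]
  have hp : pre ω' (ModuleCat.ofHom ρ) (-(i : ℤ)) ψ = 0 := by
    let ℓ := homShift (X := Dual.inD R (LocalizedModule S N')) (ω := omegaAt Mo q) (deg hω Mo q) (-(i : ℤ)) b
      (by omega)
    apply ℓ.injective
    rw [map_zero]
    refine Eq.trans ?_ (key (homShift (X := Dual.inD R (LocalizedModule S N)) (ω := omegaAt Mo q)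
      (deg hω Mo q) (-(i : ℤ)) b (by omega) ψ))
    simp [ℓ, homShift, pre, Linear.homCongr_apply]
    rfl
  rw [hp, map_zero]
  rfl

end Groth.Agent.ProZero27
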