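import Groth.Agent.Lib.ProZero27.Vanish

/-!
# Vanishing at a prime, up to elements outside it
-/

set_option autoImplicit false
universe u

open IsLocalRing TensorProduct

attribute [local instance] HasDerivedCategory.standard

noncomputable section

namespace Groth.Agent.ProZero27

open LocCohLib InjHullLib Bootstrap27

variable {A : Type u} [CommRing A] [IsNoetherianRing A]

omit [IsNoetherianRing A] in
theorem torsS_of_subsingleton_tensor (q : Ideal A) [q.IsPrime] (B : Type u) [CommRing B] [Algebra A B]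
    [Module.Flat A B] (hq : q.map (algebraMap A B) ≠ ⊤) (X : Type u) [AddCommGroup X] [Module A X]
    [Subsingleton (B ⊗[A] X)] : TorsS q.primeCompl X := fun x => by
  by_contra h
  push Not at h
  let a := LinearMap.ker (LinearMap.toSpanSingleton A X x)
  have haq : a ≤ q := fun r hr => by
    by_contra hrq
    exact h r hrq hr
  let f : (A ⧸ a) →ₗ[A] X := a.liftQ (LinearMap.toSpanSingleton A X x) le_rfl
  have hf : Function.Injective f := LinearMap.ker_eq_bot.1 (Submodule.ker_liftQ_eq_bot _ _ _ le_rfl)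
  have h1 : Subsingleton (B ⊗[A] (A ⧸ a)) :=
    (Module.Flat.lTensor_preserves_injective_linearMap (M := B) f hf).subsingleton
  have h2 : Subsingleton (B ⧸ Ideal.map (algebraMap A B) a) :=
    (Algebra.TensorProduct.quotIdealMapEquivTensorQuot (A := A) B a).toEquiv.subsingleton
  rw [Ideal.Quotient.subsingleton_iff] at h2
  exact hq (top_le_iff.1 (h2.ge.trans (Ideal.map_mono haq)))

/-- Local cohomology vanishes at `q` when it does after a flat local base change. -/
theorem torsS_H_of_baseChange (q : Ideal A) [q.IsPrime] (B : Type u) [CommRing B] [IsNoetherianRing B]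
    [Algebra A B] [Module.Flat A B] (hq : q.map (algebraMap A B) ≠ ⊤) (I : Ideal A) (p : Ideal A) (j : ℕ)
    [Subsingleton (LocCoh.H (I.map (algebraMap A B)) j (B ⧸ p.map (algebraMap A B)))] :
    TorsS q.primeCompl (LocCoh.H I j (A ⧸ p)) := by
  obtain ⟨e⟩ := nonempty_baseChange_H B I j (A ⧸ p)
  have h1 : Subsingleton (LocCoh.H (I.map (algebraMap A B)) j (B ⊗[A] (A ⧸ p))) :=
    (hcongr (I.map (algebraMap A B)) j
      (Algebra.TensorProduct.quotIdealMapEquivTensorQuot B p).toLinearEquiv).symm.toEquiv.subsingleton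
  haveI := e.toEquiv.subsingleton
  exact torsS_of_subsingleton_tensor q B hq _

theorem torsS_H_of_dimBetween_lt (I : Ideal A) (p q : PrimeSpectrum A) (j : ℕ)
    (h : Formal2.dimBetween A p.asIdeal q.asIdeal < (j : WithBot ℕ∞)) :
    TorsS q.asIdeal.primeCompl (LocCoh.H I j (A ⧸ p.asIdeal)) := by
  let R := Localization.AtPrime q.asIdeal
  haveI : Subsingleton (LocCoh.H (I.map (algebraMap A R)) j (R ⧸ p.asIdeal.map (algebraMap A R))) :=
    subsingleton_of_supportDim_lt _ _ j (by
      rw [Module.supportDim_quotient_eq_ringKrullDim]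
      exact h)
  refine torsS_H_of_baseChange q.asIdeal R ?_ I p.asIdeal j
  rw [Localization.AtPrime.map_eq_maximalIdeal]
  exact (maximalIdeal.isMaximal R).ne_top

variable (I : Ideal A) {M : Type u} [AddCommGroup M] [Module A M] [Module.Finite A M]

set_option synthInstance.maxHeartbeats 200000 in
set_option maxHeartbeats 800000 in
/-- Depth does not change at a minimal prime of an extended prime. -/
theorem depth_cpl_eq_of_minimal (q p : PrimeSpectrum A) (P : PrimeSpectrum (Cq I q))
    (hPp : P.asIdeal.comap (algebraMap A (Cq I q)) = p.asIdeal)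
    (hmin : P.asIdeal ∈ (p.asIdeal.map (algebraMap A (Cq I q))).minimalPrimes) :
    LocCoh.depth (Localization.AtPrime P.asIdeal) (LocalizedModule P.asIdeal.primeCompl
        (AdicCompletion (Iq I q) (LocalizedModule q.asIdeal.primeCompl M))) =
      LocCoh.depth (Localization.AtPrime p.asIdeal) (LocalizedModule p.asIdeal.primeCompl M) := by
  haveI := isNoetherianRing_Cq I q
  haveI := flat_Cq I q
  rw [← depth_cplModule I M q P,
    (FlatDepth.atPrime_invariants (A := A) (B := Cq I q) (F := Cq I q) (E := M) (q := P.asIdeal)).1]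
  have h0 : LocCoh.depth (EGA4.FibLocRing A (Cq I q) P.asIdeal) (EGA4.FibLocMod A (Cq I q) P.asIdeal (Cq I q)) = 0 := by
    haveI : Nontrivial (EGA4.FibLocMod A (Cq I q) P.asIdeal (Cq I q)) := by
      refine Submodule.Quotient.nontrivial_iff.2 (DepthLib.smul_top_ne_top ?_)
      exact ne_top_of_le_ne_top (maximalIdeal.isMaximal _).ne_top
        (IsLocalRing.le_maximalIdeal (Ideal.Quotient.nontrivial_iff.1
          (FlatDepth.nontrivial_fibLocRing (A := A) (B := Cq I q) (q := P.asIdeal))))
    refine DepthLib.idealDepth_eq_zero_of_forall_not_isSMulRegular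
      (DepthLib.smul_top_ne_top (maximalIdeal.isMaximal _).ne_top) fun x hx hreg => ?_
    obtain ⟨y, rfl⟩ := Ideal.Quotient.mk_surjective x
    have hy : y ∈ maximalIdeal (Localization.AtPrime P.asIdeal) := by
      rw [mem_maximalIdeal, mem_nonunits_iff] at hx ⊢
      exact fun hu => hx (hu.map _)
    have hrad : maximalIdeal (Localization.AtPrime P.asIdeal) ≤
        ((P.asIdeal.comap (algebraMap A (Cq I q))).map
          (algebraMap A (Localization.AtPrime P.asIdeal))).radical := by
      rw [Ideal.radical_eq_sInf]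
      refine le_sInf fun W ⟨hW, hWp⟩ => ?_
      let W' := W.comap (algebraMap (Cq I q) (Localization.AtPrime P.asIdeal))
      have h4 : p.asIdeal.map (algebraMap A (Cq I q)) ≤ W' := by
        rw [Ideal.map_le_iff_le_comap, Ideal.comap_comap, ← IsScalarTower.algebraMap_eq,
          ← Ideal.map_le_iff_le_comap]
        exact hPp ▸ hW
      haveI : W.IsPrime := hWp
      have h5 : W' ≤ P.asIdeal := fun a ha => by
        by_contra haP
        exact hWp.ne_top (Ideal.eq_top_of_isUnit_mem _ ha
          (IsLocalization.map_units (Localization.AtPrime P.asIdeal) (⟨a, haP⟩ : P.asIdeal.primeCompl)))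
      have h6' : P.asIdeal ≤ W' := hmin.2 ⟨inferInstance, h4⟩ h5
      rw [← Localization.AtPrime.map_eq_maximalIdeal, Ideal.map_le_iff_le_comap]
      exact h6'
    obtain ⟨n, hn⟩ := hrad hy
    refine not_subsingleton (EGA4.FibLocMod A (Cq I q) P.asIdeal (Cq I q)) (subsingleton_of_forall_eq 0 fun z => ?_)
    refine hreg.pow n ?_
    simp only [smul_zero]
    rw [← map_pow, Ideal.Quotient.eq_zero_iff_mem.2 hn]
    exact zero_smul (EGA4.FibLocRing A (Cq I q) P.asIdeal) z
  rw [h0, add_zero]
  have key : ∀ (p₁ : Ideal A) [p₁.IsPrime], p₁ = p.asIdeal →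
      LocCoh.depth (Localization.AtPrime p₁) (LocalizedModule p₁.primeCompl M) =
      LocCoh.depth (Localization.AtPrime p.asIdeal) (LocalizedModule p.asIdeal.primeCompl M) := by
    intro p₁ hp₁ he
    subst he
    rfl
  exact key _ hPp

/-- The dimension of the quotient of the completion by an extended prime. -/
theorem ringKrullDim_quotient_map_le (q : PrimeSpectrum A) (hq : I ≤ q.asIdeal) (p : PrimeSpectrum A) (hpq : p ≤ q) :
    ringKrullDim (Cq I q ⧸ p.asIdeal.map (algebraMap A (Cq I q))) ≤ Formal2.dimBetween A p.asIdeal q.asIdeal := by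
  let R := Localization.AtPrime q.asIdeal
  haveI := isNoetherianRing_Cq I q
  obtain ⟨hloc, hm⟩ := isLocalRing_cplJ (Iq I q) (by
    rw [← Localization.AtPrime.map_eq_maximalIdeal]; exact Ideal.map_mono hq)
  have hpR : p.asIdeal.map (algebraMap A R) ≤ maximalIdeal R := by
    rw [← Localization.AtPrime.map_eq_maximalIdeal]; exact Ideal.map_mono hpq
  have hle : p.asIdeal.map (algebraMap A (Cq I q)) ≤ maximalIdeal (Cq I q) := by
    rw [← hm, IsScalarTower.algebraMap_eq A R (Cq I q), ← Ideal.map_map]
    exact Ideal.map_mono hpR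
  haveI : Nontrivial (R ⧸ p.asIdeal.map (algebraMap A R)) :=
    Ideal.Quotient.nontrivial_iff.2 (ne_top_of_le_ne_top (maximalIdeal.isMaximal R).ne_top hpR)
  haveI : Nontrivial (Cq I q ⧸ p.asIdeal.map (algebraMap A (Cq I q))) :=
    Ideal.Quotient.nontrivial_iff.2 (ne_top_of_le_ne_top (maximalIdeal.isMaximal _).ne_top hle)
  haveI : IsLocalRing (R ⧸ p.asIdeal.map (algebraMap A R)) :=
    IsLocalRing.of_surjective' (Ideal.Quotient.mk _) Ideal.Quotient.mk_surjective
  haveI : IsLocalRing (Cq I q ⧸ p.asIdeal.map (algebraMap A (Cq I q))) :=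
    IsLocalRing.of_surjective' (Ideal.Quotient.mk _) Ideal.Quotient.mk_surjective
  let φ : (R ⧸ p.asIdeal.map (algebraMap A R)) →+* Cq I q ⧸ p.asIdeal.map (algebraMap A (Cq I q)) :=
    Ideal.quotientMap _ (algebraMap R (Cq I q)) (Ideal.map_le_iff_le_comap.1 (le_of_eq (by
      rw [Ideal.map_map, ← IsScalarTower.algebraMap_eq])))
  refine NormFib5.ringKrullDim_le_of_map_eq φ ?_
  rw [← IsLocalRing.map_maximalIdeal_of_surjective (Ideal.Quotient.mk (p.asIdeal.map (algebraMap A R)))
    Ideal.Quotient.mk_surjective, Ideal.map_map]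
  rw [show φ.comp (Ideal.Quotient.mk (p.asIdeal.map (algebraMap A R))) =
    (Ideal.Quotient.mk (p.asIdeal.map (algebraMap A (Cq I q)))).comp (algebraMap R (Cq I q)) from
    RingHom.ext fun _ => rfl, ← Ideal.map_map, hm]
  exact IsLocalRing.map_maximalIdeal_of_surjective _ Ideal.Quotient.mk_surjective

/-- Dimension drops strictly between primes. -/
theorem ringKrullDim_quotient_succ_le {B : Type u} [CommRing B] {P P' : Ideal B} [P.IsPrime] [P'.IsPrime]
    (h : P < P') : ringKrullDim (B ⧸ P') + 1 ≤ ringKrullDim (B ⧸ P) := by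
  obtain ⟨x, hx, hxP⟩ := SetLike.exists_of_lt h
  have hr : Ideal.Quotient.mk P x ∈ nonZeroDivisors (B ⧸ P) :=
    mem_nonZeroDivisors_of_ne_zero fun h0 => hxP (Ideal.Quotient.eq_zero_iff_mem.1 h0)
  refine le_trans ?_ (ringKrullDim_quotient_succ_le_of_nonZeroDivisor hr)
  refine add_le_add ?_ le_rfl
  let f : (B ⧸ P) ⧸ Ideal.span {Ideal.Quotient.mk P x} →+* B ⧸ P' :=
    Ideal.Quotient.lift _ (Ideal.Quotient.factor h.le) fun y hy => by
      obtain ⟨c, rfl⟩ := Ideal.mem_span_singleton.1 hy
      rw [map_mul, Ideal.Quotient.factor_mk, Ideal.Quotient.eq_zero_iff_mem.2 hx, zero_mul]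
  refine ringKrullDim_le_of_surjective f fun y => ?_
  obtain ⟨b, rfl⟩ := Ideal.Quotient.mk_surjective y
  exact ⟨Ideal.Quotient.mk _ (Ideal.Quotient.mk P b), rfl⟩

set_option synthInstance.maxHeartbeats 200000 in
set_option maxHeartbeats 800000 in
/-- The top degree at `q`, from the sixth condition. -/
theorem torsS_H_top (T : Set (PrimeSpectrum A)) (s : ℕ) (h6 : CondSix I M T s) (p q : PrimeSpectrum A)
    (hpq : p ≤ q) (hq : q ∈ T) (hIq : I ≤ q.asIdeal)
    (hdepth : LocCoh.depth (Localization.AtPrime p.asIdeal) (LocalizedModule p.asIdeal.primeCompl M) ≤ (s : ℕ∞))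
    (δ : ℕ) (hδ0 : 0 < δ) (hδ : Formal2.dimBetween A p.asIdeal q.asIdeal ≤ (δ : WithBot ℕ∞))
    (hδ' : ∀ p' : PrimeSpectrum A, p < p' → p' ≤ q →
      Formal2.dimBetween A p'.asIdeal q.asIdeal < (δ : WithBot ℕ∞)) :
    TorsS q.asIdeal.primeCompl (LocCoh.H I (δ) (A ⧸ p.asIdeal)) := by
  haveI := isNoetherianRing_Cq I q
  haveI := flat_Cq I q
  obtain ⟨hloc, hm⟩ := isLocalRing_cplJ (Iq I q) (by
    rw [← Localization.AtPrime.map_eq_maximalIdeal]; exact Ideal.map_mono hIq)
  have hqne : q.asIdeal.map (algebraMap A (Cq I q)) ≠ ⊤ := by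
    rw [IsScalarTower.algebraMap_eq A (Localization.AtPrime q.asIdeal) (Cq I q), ← Ideal.map_map,
      Localization.AtPrime.map_eq_maximalIdeal, hm]
    exact (maximalIdeal.isMaximal _).ne_top
  haveI : Subsingleton (LocCoh.H (I.map (algebraMap A (Cq I q))) (δ)
      (Cq I q ⧸ p.asIdeal.map (algebraMap A (Cq I q)))) := by
    suffices key : ∀ (N : Type u) [AddCommGroup N] [Module (Cq I q) N], Module.Finite (Cq I q) N →
        (∀ P ∈ Module.support (Cq I q) N, p.asIdeal.map (algebraMap A (Cq I q)) ≤ P.asIdeal) →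
        Subsingleton (LocCoh.H (I.map (algebraMap A (Cq I q))) (δ) N) from
      key _ inferInstance fun P hP => by
        rw [Module.support_eq_zeroLocus, Ideal.annihilator_quotient] at hP
        exact hP
    intro N _ _ hNf
    induction hNf using IsNoetherianRing.induction_on_isQuotientEquivQuotientPrime (Cq I q) with
    | subsingleton N =>
      intro _
      refine subsingleton_of_supportDim_lt _ N _ ?_
      rw [Module.supportDim_eq_bot_of_subsingleton]
      exact WithBot.bot_lt_coe _
    | quotient N P e =>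
      intro hsupp
      have hpP : p.asIdeal.map (algebraMap A (Cq I q)) ≤ P.asIdeal := hsupp P (by
        rw [e.support_eq, Module.support_eq_zeroLocus, Ideal.annihilator_quotient]
        exact fun _ h => h)
      refine (hcongr _ _ e).toEquiv.subsingleton_congr.2 ?_
      by_cases hIP : I.map (algebraMap A (Cq I q)) ≤ P.asIdeal
      · have htors : LocCoh.IsPowerTorsion (I.map (algebraMap A (Cq I q))) (Cq I q ⧸ P.asIdeal) := fun z =>
          ⟨1, fun a ha => by
            obtain ⟨b, rfl⟩ := Ideal.Quotient.mk_surjective z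
            rw [pow_one] at ha
            exact Ideal.Quotient.eq_zero_iff_mem.2 (P.asIdeal.mul_mem_right _ (hIP ha))⟩
        obtain ⟨j, rfl⟩ : ∃ j, δ = j + 1 := ⟨δ - 1, by omega⟩
        exact subsingleton_of_isPowerTorsion _ j _ htors
      have hdim : ringKrullDim (Cq I q ⧸ P.asIdeal) ≤ (δ : WithBot ℕ∞) :=
        (ringKrullDim_le_of_surjective _ (Ideal.Quotient.factor_surjective hpP)).trans
          ((ringKrullDim_quotient_map_le I q hIq p hpq).trans hδ)
      rcases hdim.eq_or_lt with heq | hlt
      swap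
      · exact subsingleton_of_supportDim_lt _ _ _ (by rw [Module.supportDim_quotient_eq_ringKrullDim]; simpa using hlt)
      let p' : PrimeSpectrum A := ⟨P.asIdeal.comap (algebraMap A (Cq I q)), inferInstance⟩
      have hp' : p ≤ p' := Ideal.map_le_iff_le_comap.1 hpP
      have hp'q : p' ≤ q := comap_le_of_Cq I q P
      have hpe : P.asIdeal.comap (algebraMap A (Cq I q)) = p.asIdeal := by
        by_contra hne
        have hlt : p < p' := lt_of_le_of_ne hp' fun h => hne (congrArg PrimeSpectrum.asIdeal h).symm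
        refine (lt_self_iff_false (δ : WithBot ℕ∞)).1 ?_
        calc (δ : WithBot ℕ∞) = ringKrullDim (Cq I q ⧸ P.asIdeal) := heq.symm
          _ ≤ _ := ringKrullDim_le_of_surjective _ (Ideal.Quotient.factor_surjective
            (Ideal.map_le_iff_le_comap.2 le_rfl :
              p'.asIdeal.map (algebraMap A (Cq I q)) ≤ P.asIdeal))
          _ ≤ _ := ringKrullDim_quotient_map_le I q hIq p' hp'q
          _ < _ := hδ' p' hlt hp'q
      have hmin : P.asIdeal ∈ (p.asIdeal.map (algebraMap A (Cq I q))).minimalPrimes := by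
        refine ⟨⟨P.isPrime, hpP⟩, fun W ⟨hW, hpW⟩ hWP => ?_⟩
        by_contra hne
        haveI := hW
        have h1 := ringKrullDim_quotient_succ_le (lt_of_le_not_ge hWP hne)
        have h2 : ringKrullDim (Cq I q ⧸ W) ≤ (δ : WithBot ℕ∞) :=
          (ringKrullDim_le_of_surjective _ (Ideal.Quotient.factor_surjective hpW)).trans
            ((ringKrullDim_quotient_map_le I q hIq p hpq).trans hδ)
        rw [heq] at h1
        have h3 := h1.trans h2
        norm_cast at h3
        omega
      obtain ⟨Q, hPQ, hIQ, hQ⟩ : ∃ Q : PrimeSpectrum (Cq I q), P ≤ Q ∧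
          I.map (algebraMap A (Cq I q)) ≤ Q.asIdeal ∧ ¬ Q.asIdeal.IsMaximal := by
        by_contra hno
        push Not at hno
        have h7 := h6 q hq P hIP hno
        rw [depth_cpl_eq_of_minimal I q p P hpe hmin] at h7
        exact absurd h7 (not_lt.2 hdepth)
      haveI : IsLocalRing (Cq I q ⧸ P.asIdeal) :=
        IsLocalRing.of_surjective' (Ideal.Quotient.mk P.asIdeal) Ideal.Quotient.mk_surjective
      haveI := AdicCompletion.isAdicComplete_self (Iq I q) (IsNoetherian.noetherian _)
      have hker : RingHom.ker (Ideal.Quotient.mk P.asIdeal) ≤ Q.asIdeal := by rw [Ideal.mk_ker]; exact hPQ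
      haveI : (Q.asIdeal.map (Ideal.Quotient.mk P.asIdeal)).IsPrime :=
        Ideal.map_isPrime_of_surjective Ideal.Quotient.mk_surjective hker
      refine (subsingleton_restrictScalars_iff (Cq I q ⧸ P.asIdeal) (I.map (algebraMap A (Cq I q)))
        (Cq I q ⧸ P.asIdeal) _).1 ?_
      refine subsingleton_H_top_of_complete_domain (Cq I q ⧸ P.asIdeal) (Ideal.Quotient.mk P.asIdeal)
        Ideal.Quotient.mk_surjective ((Iq I q).map (algebraMap (Localization.AtPrime q.asIdeal) (Cq I q))) _ ?_ δ heq
        (Q.asIdeal.map (Ideal.Quotient.mk P.asIdeal)) ?_ (fun hmax => hQ ?_) _ _ le_rfl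
      · rw [Ideal.map_map (algebraMap A (Localization.AtPrime q.asIdeal)), ← IsScalarTower.algebraMap_eq]
        rfl
      · exact Ideal.map_mono hIQ
      · have := Ideal.comap_isMaximal_of_surjective (Ideal.Quotient.mk P.asIdeal) Ideal.Quotient.mk_surjective
          (K := Q.asIdeal.map (Ideal.Quotient.mk P.asIdeal))
        rwa [Ideal.comap_map_of_surjective' _ Ideal.Quotient.mk_surjective, sup_eq_left.2 hker] at this
    | exact N₁ N₂ N₃ f g hf hg hfg h₁ h₃ =>
      intro h₂
      exact subsingleton_mid _ hf hg hfg _ (h₁ fun P hP => h₂ P (Module.support_subset_of_injective f hf hP))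
        (h₃ fun P hP => h₂ P (Module.support_subset_of_surjective g hg hP))
  exact torsS_H_of_baseChange q.asIdeal (Cq I q) hqne I p.asIdeal _

end Groth.Agent.ProZero27
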