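import Groth.Agent.Lib.ProZero27.Acyclic
import Groth.Agent.Lib.ProZero27.VanishTors
import Groth.Agent.Lib.Dlz27.DepthAt
import Groth.Agent.Lib.Dlz27.Faltings

/-!
# Cocycles on powers of an ideal die on higher powers, locally on the supports
-/

set_option autoImplicit false
universe u

open CategoryTheory IsLocalRing

attribute [local instance] HasDerivedCategory.standard

noncomputable section

namespace Groth.Agent.ProZero27

open LocCohLib InjHullLib Bootstrap27 Dlz27

variable {A : Type u} [CommRing A] [IsNoetherianRing A]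

theorem torsS_H_of_support (S : Submonoid A) (I : Ideal A) (j : ℕ) (E : Type u) [AddCommGroup E] [Module A E]
    [hE : Module.Finite A E] (h : ∀ p ∈ Module.support A E, TorsS S (LocCoh.H I j (A ⧸ p.asIdeal))) :
    TorsS S (LocCoh.H I j E) := by
  revert h
  induction hE using IsNoetherianRing.induction_on_isQuotientEquivQuotientPrime A with
  | subsingleton N =>
    intro _
    haveI : Subsingleton (LocCoh.H I j N) := subsingleton_of_supportDim_lt I N j (by
      rw [Module.supportDim_eq_bot_of_subsingleton]; exact WithBot.bot_lt_coe _)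
    exact TorsS.of_subsingleton
  | quotient N p e =>
    intro h
    exact TorsS.of_equiv (hcongr I j e).symm (h p (by
      rw [e.support_eq, Module.support_eq_zeroLocus, Ideal.annihilator_quotient]
      exact fun _ h => h))
  | exact N₁ N₂ N₃ f g hf hg hfg h₁ h₃ =>
    intro h
    exact torsS_H_mid I hf hg hfg j (h₁ fun p hp => h p (Module.support_subset_of_injective f hf hp))
      (h₃ fun p hp => h p (Module.support_subset_of_surjective g hg hp))

variable {ω : Dual.D A} (hω : Dual.IsDualizing A ω) (Mo : Model ω)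
  (M : Type u) [AddCommGroup M] [Module A M]

/-- The differential of `Hom(M, W)`. -/
abbrev dH (i j : ℤ) : (M →ₗ[A] Mo.W.X i) →ₗ[A] (M →ₗ[A] Mo.W.X j) :=
  LinearMap.compRight A (Mo.W.d i j).hom

omit [IsNoetherianRing A] in
theorem dH_dH (i j k : ℤ) (x : M →ₗ[A] Mo.W.X i) : dH Mo M j k (dH Mo M i j x) = 0 :=
  dd_comp i j k x

omit [IsNoetherianRing A] in
theorem subsingleton_hom_of_lt (j : ℤ) (hj : j < Mo.lo) : Subsingleton (M →ₗ[A] Mo.W.X j) := by
  haveI := ModuleCat.subsingleton_of_isZero (Mo.W.isZero_of_isStrictlyGE Mo.lo j hj)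
  exact ⟨fun f g => LinearMap.ext fun _ => Subsingleton.elim _ _⟩

/-- The cohomology of `Hom(M, W)`. -/
abbrev Eh (i j k : ℤ) : Type u := LinearMap.ker (dH Mo M j k) ⧸ bz (dH Mo M) i j k

variable [Module.Finite A M]

include hω in
theorem finite_Eh (i j k : ℤ) (hij : i + 1 = j) (hjk : j + 1 = k) : Module.Finite A (Eh Mo M i j k) := by
  classical
  obtain rfl : k = j + 1 := hjk.symm
  obtain ⟨r, fl, hfl, hfs⟩ := (finV Mo.inj Mo.lo (finite_homology hω Mo) M j).prev hij
  let v : Fin r → Eh Mo M i j (j + 1) := fun l => Submodule.Quotient.mk ⟨fl l, hfl l⟩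
  refine Module.Finite.of_surjective (Fintype.linearCombination A v) fun x => ?_
  obtain ⟨⟨f, hf⟩, rfl⟩ := Submodule.Quotient.mk_surjective _ x
  obtain ⟨c, g, hg⟩ := hfs f hf
  refine ⟨c, ?_⟩
  rw [Fintype.linearCombination_apply]
  let z : Fin r → LinearMap.ker (dH Mo M j (j + 1)) := fun l => ⟨fl l, hfl l⟩
  change ∑ l, c l • (bz (dH Mo M) i j (j + 1)).mkQ (z l) = (bz (dH Mo M) i j (j + 1)).mkQ ⟨f, hf⟩
  simp only [← map_smul]
  rw [← map_sum, Submodule.mkQ_apply, Submodule.mkQ_apply, Submodule.Quotient.eq]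
  refine ⟨-g, ?_⟩
  show (Mo.W.d i j).hom ∘ₗ (-g) = _
  rw [LinearMap.comp_neg]
  simp only [Submodule.coe_sub, Submodule.coe_sum, Submodule.coe_smul, Submodule.coe_subtype, hg, z]
  abel

include hω in
/-- Nonvanishing at `p` bounds the degree by the depth. -/
theorem exists_depth_le_of_mem_support (i j k : ℤ) (hij : i + 1 = j) (hjk : j + 1 = k) (p : PrimeSpectrum A)
    (hp : p ∈ Module.support A (Eh Mo M i j k)) :
    ∃ n : ℕ, LocCoh.depth (Localization.AtPrime p.asIdeal) (LocalizedModule p.asIdeal.primeCompl M) = n ∧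
      j + n ≤ deg hω Mo p := by
  obtain rfl : k = j + 1 := hjk.symm
  have hnv : ¬ VanS Mo.W p.asIdeal.primeCompl M j := fun hv => by
    refine absurd hp (Module.notMem_support_iff'.2 fun x => ?_)
    obtain ⟨⟨f, hf⟩, rfl⟩ := Submodule.Quotient.mk_surjective _ x
    obtain ⟨s, g, hg⟩ := VanS.prev hv hij f hf
    refine ⟨(s : A), s.2, ?_⟩
    rw [← Submodule.Quotient.mk_smul, Submodule.Quotient.mk_eq_zero]
    exact ⟨g, hg⟩
  rcases subsingleton_or_nontrivial (LocalizedModule p.asIdeal.primeCompl M) with h | h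
  · exact absurd (vanS_of_subsingleton_localized p M j) hnv
  haveI : Module.Finite (Localization.AtPrime p.asIdeal) (LocalizedModule p.asIdeal.primeCompl M) :=
    Module.Finite.of_isLocalizedModule p.asIdeal.primeCompl (LocalizedModule.mkLinearMap p.asIdeal.primeCompl M)
  obtain ⟨n, hn⟩ := DepthLib.exists_depth_eq_natCast (R := Localization.AtPrime p.asIdeal)
    (M := LocalizedModule p.asIdeal.primeCompl M)
  refine ⟨n, hn, ?_⟩
  by_contra hlt
  by_cases hj : deg hω Mo p < j
  · exact hnv (vanS_high hω Mo p j M hj)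
  · refine hnv ?_
    have h1 := (vanS_of_depth hω Mo p n M hn).1 (deg hω Mo p - j).toNat (by omega)
    rwa [show deg hω Mo p - ((deg hω Mo p - j).toNat : ℤ) = j by omega] at h1

include hω Mo in
omit [AddCommGroup M] [Module A M] [Module.Finite A M] in
theorem dimBetween_eq_deg (p q : PrimeSpectrum A) (hpq : p ≤ q) :
    Formal2.dimBetween A p.asIdeal q.asIdeal = (((deg hω Mo q - deg hω Mo p).toNat : ℕ∞) : WithBot ℕ∞) := by
  rw [← krullDim_Icc_eq_dimBetween p q, krullDim_Icc hω Mo p q hpq]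

variable (I : Ideal A) (d : ℕ) (hcd : LocCoh.CdLE A I d) (T : Set (PrimeSpectrum A))
  (hTI : T ⊆ PrimeSpectrum.zeroLocus (I : Set A)) (s : ℕ)
  (h4 : ∀ p r q : PrimeSpectrum A, p ≤ r → r ≤ q → ¬ I ≤ p.asIdeal → I ≤ r.asIdeal → r ∉ T → q ∈ T →
    (s : ℕ∞) ≤ LocCoh.depth (Localization.AtPrime p.asIdeal) (LocalizedModule p.asIdeal.primeCompl M) ∨
    ((d + s : ℕ) : WithBot ℕ∞) < (LocCoh.depth (Localization.AtPrime p.asIdeal)
      (LocalizedModule p.asIdeal.primeCompl M) : WithBot ℕ∞) + Formal2.dimBetween A p.asIdeal q.asIdeal)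
  (h6 : CondSix I M T s)

include hω Mo hcd in
omit [AddCommGroup M] [Module A M] [Module.Finite A M] in
theorem false_of_cd_zero (hd : d = 0) (p q : PrimeSpectrum A) (hpq : p ≤ q) (hp : ¬ I ≤ p.asIdeal)
    (hq : I ≤ q.asIdeal) : False := by
  subst hd
  obtain ⟨r₀, hr₀, hr₀q⟩ := Ideal.exists_minimalPrimes_le (I := p.asIdeal ⊔ I) (J := q.asIdeal) (sup_le hpq hq)
  haveI : r₀.IsPrime := hr₀.1.1
  let r : PrimeSpectrum A := ⟨r₀, hr₀.1.1⟩
  have hpr : p ≤ r := le_sup_left.trans hr₀.1.2
  have hne : p < r := lt_of_le_of_ne hpr fun h => hp ((le_sup_right.trans hr₀.1.2).trans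
    (congrArg PrimeSpectrum.asIdeal h).ge)
  let B := Localization.AtPrime r₀
  have hpB : (p.asIdeal.map (algebraMap A B)).IsPrime := IsLocalization.isPrime_of_isPrime_disjoint r₀.primeCompl
    B _ p.isPrime (Set.disjoint_left.2 fun x hx hxp => hx (hpr hxp))
  have hcd' : LocCoh.CdLE B (I.map (algebraMap A B)) 0 := fun N _ _ i hi => by
    letI : Module A N := Module.compHom N (algebraMap A B)
    haveI : IsScalarTower A B N := IsScalarTower.of_algebraMap_smul fun _ _ => rfl
    exact (subsingleton_restrictScalars_iff B I N i).2 (hcd N i hi)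
  have hIB : I.map (algebraMap A B) ≤ maximalIdeal B := by
    rw [← Localization.AtPrime.map_eq_maximalIdeal]
    exact Ideal.map_mono (le_sup_right.trans hr₀.1.2)
  have h := dim_le_of_cdLE (I.map (algebraMap A B)) 0 hcd' ⟨_, hpB⟩ hIB fun Q hQ hIQ => by
    have h1 : Q.asIdeal.comap (algebraMap A B) = r₀ := by
      have h2 : Q.asIdeal.comap (algebraMap A B) ≤ r₀ :=
        (Ideal.comap_mono (IsLocalRing.le_maximalIdeal Q.isPrime.ne_top)).trans
          (IsLocalization.AtPrime.comap_maximalIdeal B r₀).le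
      exact le_antisymm h2 (hr₀.2 ⟨inferInstance, sup_le (Ideal.map_le_iff_le_comap.1 hQ)
        (Ideal.map_le_iff_le_comap.1 hIQ)⟩ h2)
    rw [← IsLocalization.map_comap r₀.primeCompl B Q.asIdeal, show Ideal.under A Q.asIdeal = r₀ from h1, Localization.AtPrime.map_eq_maximalIdeal]
    exact maximalIdeal.isMaximal B
  have h1 : Formal2.dimBetween A p.asIdeal r.asIdeal ≤ (((0 : ℕ) : ℕ∞) : WithBot ℕ∞) := h
  rw [dimBetween_eq_deg hω Mo p r hpr] at h1
  norm_cast at h1
  have := deg_strictMono hω Mo hne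
  omega

include hω Mo hcd hTI h4 h6 in
/-- The primes that can occur contribute nothing at `q`. -/
theorem torsS_H_prime (q : PrimeSpectrum A) (hq : q ∈ T) (i : ℕ) (hi : i ≤ s + 1) (p : PrimeSpectrum A)
    (hpq : p ≤ q) (hp : ¬ I ≤ p.asIdeal) (n : ℕ)
    (hdep : LocCoh.depth (Localization.AtPrime p.asIdeal) (LocalizedModule p.asIdeal.primeCompl M) = n)
    (a : ℕ) (hn : (n : ℤ) + (deg hω Mo q - deg hω Mo p) ≤ i + a) :
    1 ≤ a ∧ TorsS q.asIdeal.primeCompl (LocCoh.H I (a + 1) (A ⧸ p.asIdeal)) := by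
  have hIq : I ≤ q.asIdeal := hTI hq
  have hne : p < q := lt_of_le_of_ne hpq fun h => hp (hIq.trans (congrArg PrimeSpectrum.asIdeal h).ge)
  have hlt := deg_strictMono hω Mo hne
  set δ := (deg hω Mo q - deg hω Mo p).toNat with hδ
  have hdim : Formal2.dimBetween A p.asIdeal q.asIdeal = ((δ : ℕ∞) : WithBot ℕ∞) := dimBetween_eq_deg hω Mo p q hpq
  by_cases hr : ∀ r : PrimeSpectrum A, p ≤ r → r ≤ q → I ≤ r.asIdeal → r ∈ T
  · have h1 := depth_gt_of_no_between I M T hTI s h6 p q hpq hp hq hr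
    rw [hdep] at h1
    have h1' : s < n := by exact_mod_cast h1
    refine ⟨by omega, torsS_H_of_dimBetween_lt I p q _ ?_⟩
    rw [hdim]
    exact_mod_cast (show δ < a + 1 by omega)
  push Not at hr
  obtain ⟨r, hpr, hrq, hIr, hrT⟩ := hr
  have hrne : r < q := lt_of_le_of_ne hrq fun h => hrT (h ▸ hq)
  have hpne : p < r := lt_of_le_of_ne hpr fun h => hp (hIr.trans (congrArg PrimeSpectrum.asIdeal h).ge)
  have h2δ : 2 ≤ δ := by
    have := deg_strictMono hω Mo hrne
    have := deg_strictMono hω Mo hpne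
    omega
  rcases h4 p r q hpr hrq hp hIr hrT hq with h | h
  · rw [hdep] at h
    have h' : s ≤ n := by exact_mod_cast h
    refine ⟨by omega, ?_⟩
    rcases (show δ ≤ a + 1 by omega).eq_or_lt with heq | hlt'
    swap
    · refine torsS_H_of_dimBetween_lt I p q _ ?_
      rw [hdim]
      exact_mod_cast hlt'
    refine torsS_H_top I T s h6 p q hpq hq hIq ?_ (a + 1) (by omega) ?_ fun p' hpp' hp'q => ?_
    · rw [hdep]
      exact_mod_cast (show n ≤ s by omega)
    · rw [hdim, heq]
      exact le_rfl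
    · rw [dimBetween_eq_deg hω Mo p' q hp'q]
      have := deg_strictMono hω Mo hpp'
      exact_mod_cast (show (deg hω Mo q - deg hω Mo p').toNat < a + 1 by omega)
  · rw [hdep, hdim] at h
    have h' : d + s < n + δ := by exact_mod_cast h
    by_cases ha : a = 0
    · exact (false_of_cd_zero hω Mo I d hcd (by omega) p q hpq hp hIq).elim
    · refine ⟨by omega, ?_⟩
      haveI : Subsingleton (LocCoh.H I (a + 1) (A ⧸ p.asIdeal)) := hcd _ _ (by omega)
      exact TorsS.of_subsingleton

include hω hcd hTI h4 h6 in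
/-- A cocycle on a power of `I` is a coboundary on a higher power, up to elements outside `q`. -/
theorem exists_coboundary (q : PrimeSpectrum A) (hq : q ∈ T) (i : ℕ) (hi : i ≤ s + 1) (n : ℕ) (b : ℤ)
    (hb : b + i = deg hω Mo q) (f : (I ^ n • (⊤ : Submodule A M) : Submodule A M) →ₗ[A] Mo.W.X b)
    (hf : (Mo.W.d b (b + 1)).hom ∘ₗ f = 0) :
    ∃ (m : ℕ) (hnm : n ≤ m) (t : q.asIdeal.primeCompl)
      (g : (I ^ m • (⊤ : Submodule A M) : Submodule A M) →ₗ[A] Mo.W.X (b - 1)),
      (Mo.W.d (b - 1) b).hom ∘ₗ g = (t : A) • (f ∘ₗ Submodule.inclusion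
        (Submodule.smul_mono_left (Ideal.pow_le_pow_right hnm))) := by
  classical
  obtain ⟨F, hF⟩ := exists_extend (Mo.inj b) (Submodule.injective_subtype _) f
  haveI := finite_Eh hω Mo M
  have hx : dH Mo M b (b + 1) F ∈ powTors I (M →ₗ[A] Mo.W.X (b + 1)) := by
    refine mem_powTors_iff.2 ⟨n, fun r hr => LinearMap.ext fun x => ?_⟩
    have h := LinearMap.congr_fun hf ⟨r • x, Submodule.smul_mem_smul hr Submodule.mem_top⟩
    rw [← hF] at h
    show r • (Mo.W.d b (b + 1)).hom (F x) = 0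
    rw [← map_smul, ← map_smul]
    exact h
  obtain ⟨t, ht, G, hG⟩ := exists_sub_mem_powTors I (S := q.asIdeal.primeCompl) (dH Mo M) (dH_dH Mo M) Mo.lo
    (subsingleton_hom_of_lt Mo M) (fun j i hi => subsingleton_H_hom M (Mo.W.X j) (Mo.inj j) I i hi) b
    (fun i' j' k' hij hjk a ha hab => by
      haveI := finite_Eh hω Mo M i' j' k' hij hjk
      refine torsS_H_of_support _ I (a + 1) (Eh Mo M i' j' k') fun p hp => ?_
      by_cases hIp : I ≤ p.asIdeal
      · haveI : Subsingleton (LocCoh.H I (a + 1) (A ⧸ p.asIdeal)) := subsingleton_of_isPowerTorsion I a _ fun z =>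
          ⟨1, fun r hr => by
            obtain ⟨y, rfl⟩ := Ideal.Quotient.mk_surjective z
            rw [pow_one] at hr
            exact Ideal.Quotient.eq_zero_iff_mem.2 (p.asIdeal.mul_mem_right _ (hIp hr))⟩
        exact TorsS.of_subsingleton
      by_cases hpq : p ≤ q
      · obtain ⟨m, hm, hle⟩ := exists_depth_le_of_mem_support hω Mo M i' j' k' hij hjk p hp
        exact (torsS_H_prime hω Mo M I d hcd T hTI s h4 h6 q hq i hi p hpq hIp m hm a (by omega)).2
      · obtain ⟨x, hxp, hxq⟩ := SetLike.not_le_iff_exists.1 (show ¬ p.asIdeal ≤ q.asIdeal from hpq)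
        intro z
        refine ⟨x, hxq, ?_⟩
        have h0 : (x • LinearMap.id : (A ⧸ p.asIdeal) →ₗ[A] A ⧸ p.asIdeal) = 0 := LinearMap.ext fun w => by
          obtain ⟨y, rfl⟩ := Ideal.Quotient.mk_surjective w
          exact Ideal.Quotient.eq_zero_iff_mem.2 (p.asIdeal.mul_mem_right _ hxp)
        have h1 := LinearMap.congr_fun (hmap_smul I (a + 1) x (LinearMap.id : (A ⧸ p.asIdeal) →ₗ[A] A ⧸ p.asIdeal)) z
        rw [h0, hmap_id] at h1
        refine h1.symm.trans ?_
        rw [show (0 : (A ⧸ p.asIdeal) →ₗ[A] A ⧸ p.asIdeal) = (0 : A) • LinearMap.id by rw [zero_smul], hmap_smul,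
          zero_smul]
        rfl)
    (fun z hz => by
      let e : Eh Mo M (b - 1) b (b + 1) := Submodule.Quotient.mk ⟨z, hz⟩
      let 𝔞 : Ideal A := LinearMap.ker (LinearMap.toSpanSingleton A (Eh Mo M (b - 1) b (b + 1)) e)
      let R := Localization.AtPrime q.asIdeal
      have hrad : I.map (algebraMap A R) ≤ (𝔞.map (algebraMap A R)).radical := by
        rw [Ideal.radical_eq_sInf]
        refine le_sInf fun W ⟨hW, hWp⟩ => ?_
        haveI := hWp
        let P : PrimeSpectrum A := ⟨W.comap (algebraMap A R), inferInstance⟩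
        have hP : P ∈ Module.support A (Eh Mo M (b - 1) b (b + 1)) := by
          refine Module.mem_support_iff'.2 ⟨e, fun r hr h0 => hr (Ideal.map_le_iff_le_comap.1 hW ?_)⟩
          exact h0
        have hPq : P ≤ q := (Ideal.comap_mono (IsLocalRing.le_maximalIdeal hWp.ne_top)).trans
          (IsLocalization.AtPrime.comap_maximalIdeal R q.asIdeal).le
        refine Ideal.map_le_iff_le_comap.2 ?_
        by_contra hIP
        obtain ⟨m, hm, hle⟩ := exists_depth_le_of_mem_support hω Mo M (b - 1) b (b + 1) (by omega) rfl P hP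
        exact absurd (torsS_H_prime hω Mo M I d hcd T hTI s h4 h6 q hq i hi P hPq hIP m hm 0 (by omega)).1 (by omega)
      obtain ⟨k, hk⟩ := Ideal.exists_pow_le_of_le_radical_of_fg hrad (Ideal.FG.map (IsNoetherian.noetherian I : I.FG) _)
      rw [← Ideal.map_pow] at hk
      let K := (I ^ k).map (Ideal.Quotient.mk 𝔞)
      obtain ⟨t, ht⟩ := exists_mul_kills q.asIdeal.primeCompl (Submodule.map (Submodule.mkQ 𝔞) (I ^ k)) fun x => by
        obtain ⟨y, hy, hyx⟩ := x.2
        obtain ⟨u, hu, huy⟩ := (IsLocalization.algebraMap_mem_map_algebraMap_iff q.asIdeal.primeCompl R 𝔞 y).1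
          (hk (Ideal.mem_map_of_mem _ hy))
        refine ⟨u, hu, Subtype.ext ?_⟩
        show u • (x : A ⧸ 𝔞) = 0
        rw [← hyx, ← map_smul]
        exact (Submodule.Quotient.mk_eq_zero _).2 huy
      refine ⟨(t : A), t.2, k, fun r hr => ?_⟩
      have h1 := congrArg Subtype.val (ht ⟨Submodule.mkQ 𝔞 r, Submodule.mem_map_of_mem hr⟩)
      change (t : A) • Submodule.mkQ 𝔞 r = 0 at h1
      rw [← map_smul, Submodule.mkQ_apply, Submodule.Quotient.mk_eq_zero] at h1
      change ((t : A) • r) • e = 0 at h1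
      rw [← Submodule.Quotient.mk_smul, Submodule.Quotient.mk_eq_zero] at h1
      rw [mul_comm]
      exact h1)
    F hx
  obtain ⟨k, hk⟩ := mem_powTors_iff.1 hG
  refine ⟨max n k, le_max_left _ _, ⟨t, ht⟩, G ∘ₗ Submodule.subtype _, LinearMap.ext fun x => ?_⟩
  have h0 : (t • F - dH Mo M (b - 1) b G) (x : M) = 0 := by
    refine Submodule.smul_induction_on x.2 (fun r hr v _ => ?_) fun v w hv hw => by rw [map_add, hv, hw, add_zero]
    rw [map_smul]
    exact LinearMap.congr_fun (hk r (Ideal.pow_le_pow_right (le_max_right n k) hr)) v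
  rw [LinearMap.sub_apply, sub_eq_zero] at h0
  rw [← hF]
  exact h0.symm

end Groth.Agent.ProZero27
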