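import Groth.Agent.Lib.ProZero27.Devissage
import Groth.Agent.Lib.Dlz27.Faltings
import Groth.Agent.Lib.Dlz27.HKappa
import Groth.Agent.Lib.LocCoh.AddElem27

/-!
# Comparing supports when cohomology with supports is torsion
-/

set_option autoImplicit false
universe u

open CategoryTheory CategoryTheory.Limits Opposite

attribute [local instance] HasDerivedCategory.standard

noncomputable section

namespace Groth.Agent.ProZero27

open HTFin27 ExtCechLib InjHullLib LocCohLib Dlz27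

variable {A : Type u} [CommRing A] [IsNoetherianRing A] (W : DRing.Cx A) [W.IsStrictlyGE 0]
  (hW : ∀ i, Injective (W.X i)) (T : Set (PrimeSpectrum A))

/-- The torsion subcomplex. -/
def dT (i j : ℤ) : TTors T (W.X i) →ₗ[A] TTors T (W.X j) :=
  (W.d i j).hom.restrict fun _ hx => TTors.map T hx (W.d i j).hom

include hW in
omit [W.IsStrictlyGE 0] in
theorem subsingleton_H_TTors (L : Ideal A) (j : ℤ) (i : ℕ) (hi : 1 ≤ i) :
    Subsingleton (LocCoh.H L i (TTors T (W.X j))) := by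
  haveI : Module.Injective A (TTors T (W.X j)) :=
    injective_of_torsion_family ((Module.injective_iff_injective_object A _).2 (hW j)) {J | Ok T J}
      (fun a ha b hb => Ok.mul ha hb) _ fun x => Iff.rfl
  obtain ⟨k, rfl⟩ : ∃ k, i = k + 1 := ⟨i - 1, by omega⟩
  haveI : Injective (ModuleCat.of A (TTors T (W.X j))) := (Module.injective_iff_injective_object A _).1 inferInstance
  exact subsingleton_succ_of_injective L k (ModuleCat.of A (TTors T (W.X j)))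

include hW in
/-- If cohomology with supports in `T` is `L`-torsion up to degree `s`, a `T`-torsion element with
`L`-torsion differential is an `L`-torsion element up to a boundary. -/
theorem exists_sub_mem (L : Ideal A) (s : ℕ)
    (hL : ∀ j : ℕ, j ≤ s → ∀ z ∈ TCy T W j, ∃ k : ℕ, ∀ r ∈ L ^ k, r • z ∈ TBd T W j)
    (i : ℤ) (hi : i ≤ s) (x : W.X i) (hx : x ∈ TTors T (W.X i))
    (hdx : W.d i (i + 1) x ∈ powTors L (W.X (i + 1))) :
    ∃ y ∈ TTors T (W.X (i - 1)), x - W.d (i - 1) i y ∈ powTors L (W.X i) := by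
  have hd : ∀ (a b c : ℤ) (z : TTors T (W.X a)), dT W T b c (dT W T a b z) = 0 := fun a b c z =>
    Subtype.ext (LinearMap.congr_fun (congrArg ModuleCat.Hom.hom (W.d_comp_d a b c)) z.1)
  have hbot : ∀ j : ℤ, j < 0 → Subsingleton (TTors T (W.X j)) := fun j hj => by
    haveI := ModuleCat.subsingleton_of_isZero (W.isZero_of_isStrictlyGE 0 j hj)
    infer_instance
  have hcl : ∀ j : ℤ, j ≤ s → ∀ z : TTors T (W.X j), dT W T j (j + 1) z = 0 →
      ∃ k : ℕ, ∀ r ∈ L ^ k, r • z ∈ LinearMap.range (dT W T (j - 1) j) := by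
    intro j hj z hz
    rcases lt_or_ge j 0 with h | h
    · haveI := hbot j h
      exact ⟨0, fun r _ => by rw [Subsingleton.elim (r • z) 0]; exact zero_mem _⟩
    obtain ⟨n, rfl⟩ : ∃ n : ℕ, j = n := ⟨j.toNat, by omega⟩
    obtain ⟨k, hk⟩ := hL n (by omega) z.1 ⟨z.2, (mem_Cy W rfl).2 (congrArg Subtype.val hz)⟩
    refine ⟨k, fun r hr => ?_⟩
    obtain ⟨y, hy, hyd⟩ := (mem_TBd T W (j := (n : ℤ) - 1) (by omega)).1 (hk r hr)
    exact ⟨⟨y, hy⟩, Subtype.ext hyd⟩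
  have hx' : dT W T i (i + 1) ⟨x, hx⟩ ∈ powTors L (TTors T (W.X (i + 1))) := by
    obtain ⟨k, hk⟩ := mem_powTors_iff.1 hdx
    exact mem_powTors_iff.2 ⟨k, fun r hr => Subtype.ext (hk r hr)⟩
  obtain ⟨t, ht, y, hy⟩ := exists_sub_mem_powTors L (S := (⊥ : Submonoid A)) (X := fun j => ↥(TTors T (W.X j)))
    (dT W T) hd 0 hbot (fun j i hi => subsingleton_H_TTors W hW T L j i hi) i
    (fun a b c hab hbc m hm hmb => by
      haveI : Subsingleton (LocCoh.H L (m + 1) (LinearMap.ker (dT W T b c) ⧸ bz (dT W T) a b c)) := by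
        refine subsingleton_of_isPowerTorsion L m _ fun v => ?_
        obtain ⟨⟨v, hv⟩, rfl⟩ := Submodule.Quotient.mk_surjective _ v
        obtain rfl : a = b - 1 := by omega
        obtain rfl : c = b + 1 := by omega
        obtain ⟨k, hk⟩ := hcl b (by omega) v hv
        exact ⟨k, fun r hr => (Submodule.Quotient.mk_eq_zero _).2 (hk r hr)⟩
      exact TorsS.of_subsingleton)
    (fun z hz => by
      obtain ⟨k, hk⟩ := hcl i hi z hz
      exact ⟨1, Submonoid.one_mem _, k, fun r hr => by rw [mul_one]; exact hk r hr⟩)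
    ⟨x, hx⟩ hx'
  rw [Submonoid.mem_bot] at ht
  rw [ht, one_smul] at hy
  obtain ⟨k, hk⟩ := mem_powTors_iff.1 hy
  exact ⟨y.1, y.2, mem_powTors_iff.2 ⟨k, fun r hr => congrArg Subtype.val (hk r hr)⟩⟩

variable [W.IsKInjective] {M : Type u} [AddCommGroup M] [Module A M] (e : DerivedCategory.Q.obj W ≅ Dual.inD A M)

/-- The comparison map on classes of torsion cycles. -/
theorem cmp_toT {L L' : Ideal A} (h : L' ≤ L) (i : ℕ) (x : W.X i) (hx : x ∈ TCy (VI L) W (i : ℤ))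
    (hx' : x ∈ TCy (VI L') W (i : ℤ)) :
    ((Dual2.HmapOfLE h i).app (ModuleCat.of A M)).hom
        (toT (VI L) W e (i : ℤ) (isColimK_κI L i (ModuleCat.of A M)) ⟨x, hx⟩) =
      toT (VI L') W e (i : ℤ) (isColimK_κI L' i (ModuleCat.of A M)) ⟨x, hx'⟩ := by
  obtain ⟨k, hk⟩ := mem_powTors_iff.1 (mem_TTors_zeroLocus_iff.1 hx.1)
  have hle : L' ^ k ≤ L ^ k := Ideal.pow_right_mono h k
  let j : Dual2.IdealsIn (VI L) := mkI _ (L ^ k) (ok_zeroLocus_iff.2 ⟨k, le_rfl⟩)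
  let j' : Dual2.IdealsIn (VI L') := mkI _ (L ^ k) (ok_zeroLocus_iff.2 ⟨k, hle⟩)
  rw [toT_eq (VI L) W e _ _ ⟨x, hx⟩ j hk, toT_eq (VI L') W e _ _ ⟨x, hx'⟩ j' hk]
  unfold clT κI
  rw [valI_indep L i (ModuleCat.of A M) j (expI_spec L j) (le_refl (L ^ k)),
    valI_indep L' i (ModuleCat.of A M) j' (expI_spec L' j') (show L' ^ k ≤ j'.obj from hle),
    valI_apply, valI_apply, cmpLE_ι]
  refine (congrArg (LocCohLib.ι L' i (ModuleCat.of A M) k) (Abelian.Ext.mk₀_comp_mk₀_assoc _ _ _)).trans ?_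
  refine congrArg (fun t => LocCohLib.ι L' i (ModuleCat.of A M) k
    ((Abelian.Ext.mk₀ t).comp _ (zero_add i))) ?_
  exact ModuleCat.hom_ext (Submodule.linearMap_qext _ (LinearMap.ext fun x => rfl))

include hW in
/-- Comparison maps are bijective where the cohomology with supports in `T` is torsion. -/
theorem cmp_bijective {L L' : Ideal A} (h : L' ≤ L) (hL'T : VI L' ⊆ T) (s : ℕ)
    (hL : ∀ j : ℕ, j ≤ s → ∀ z ∈ TCy T W j, ∃ k : ℕ, ∀ r ∈ L ^ k, r • z ∈ TBd T W j) (e : DerivedCategory.Q.obj W ≅ Dual.inD A M) (i : ℕ) (hi : i ≤ s) :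
    Function.Bijective ((Dual2.HmapOfLE h i).app (ModuleCat.of A M)).hom := by
  have hVV : VI L ⊆ VI L' := PrimeSpectrum.zeroLocus_anti_mono h
  have toTT : ∀ {j : ℤ} {y : W.X j}, y ∈ powTors L' (W.X j) → y ∈ TTors T (W.X j) := fun {j y} hy => by
    obtain ⟨J, hJ, hk⟩ := mem_TTors_zeroLocus_iff.2 hy
    exact ⟨J, hJ.trans hL'T, hk⟩
  have hmono : ∀ {j : ℤ} {y : W.X j}, y ∈ powTors L (W.X j) → y ∈ powTors L' (W.X j) := fun {j y} hy => by
    obtain ⟨k, hk⟩ := mem_powTors_iff.1 hy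
    exact mem_powTors_iff.2 ⟨k, fun r hr => hk r (Ideal.pow_right_mono h k hr)⟩
  constructor
  · rw [injective_iff_map_eq_zero]
    intro v hv
    obtain ⟨⟨x, hx⟩, rfl⟩ := toT_surjective (VI L) W e (i : ℤ) (isColimK_κI L i (ModuleCat.of A M)) v
    have hxL := mem_TTors_zeroLocus_iff.1 hx.1
    rw [cmp_toT W e h i x hx ⟨mem_TTors_zeroLocus_iff.2 (hmono hxL), hx.2⟩, toT_eq_zero_iff] at hv
    obtain ⟨y, hy, hyd⟩ := (mem_TBd _ W (j := (i : ℤ) - 1) (by omega)).1 hv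
    rw [toT_eq_zero_iff]
    obtain ⟨z, -, hyz⟩ := exists_sub_mem W hW T L s hL ((i : ℤ) - 1) (by omega) y
      (toTT (mem_TTors_zeroLocus_iff.1 hy)) (by
        rw [show ((i : ℤ) - 1) + 1 = (i : ℤ) by omega]
        exact (show W.d ((i : ℤ) - 1) (i : ℤ) y = x from hyd) ▸ hxL)
    refine (mem_TBd _ W (j := (i : ℤ) - 1) (by omega)).2 ⟨_, mem_TTors_zeroLocus_iff.2 hyz, ?_⟩
    refine (map_sub _ _ _).trans ?_
    rw [show (dd W ((i : ℤ) - 1) (i : ℤ)) (W.d ((i : ℤ) - 1 - 1) ((i : ℤ) - 1) z) = 0 from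
      LinearMap.congr_fun (congrArg ModuleCat.Hom.hom (W.d_comp_d _ _ _)) z, sub_zero]
    exact hyd
  · intro v
    obtain ⟨⟨x, hx⟩, rfl⟩ := toT_surjective (VI L') W e (i : ℤ) (isColimK_κI L' i (ModuleCat.of A M)) v
    have hxd : W.d (i : ℤ) ((i : ℤ) + 1) x = 0 := (mem_Cy W rfl).1 hx.2
    obtain ⟨y, hy, hxy⟩ := exists_sub_mem W hW T L s hL (i : ℤ) (by omega) x
      (toTT (mem_TTors_zeroLocus_iff.1 hx.1)) (by rw [hxd]; exact zero_mem _)
    have hdd : W.d (i : ℤ) ((i : ℤ) + 1) (W.d ((i : ℤ) - 1) (i : ℤ) y) = 0 :=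
      LinearMap.congr_fun (congrArg ModuleCat.Hom.hom (W.d_comp_d _ _ _)) y
    have hcy : x - W.d ((i : ℤ) - 1) (i : ℤ) y ∈ Cy W (i : ℤ) := (mem_Cy W rfl).2 (by
      show W.d (i : ℤ) ((i : ℤ) + 1) (x - W.d ((i : ℤ) - 1) (i : ℤ) y) = 0
      rw [map_sub, hxd, hdd, sub_zero])
    refine ⟨toT (VI L) W e (i : ℤ) (isColimK_κI L i (ModuleCat.of A M)) ⟨_, mem_TTors_zeroLocus_iff.2 hxy, hcy⟩, ?_⟩
    rw [cmp_toT W e h i _ _ ⟨mem_TTors_zeroLocus_iff.2 (hmono hxy), hcy⟩, ← sub_eq_zero, ← map_sub, toT_eq_zero_iff]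
    -- `-d y` is the boundary of an `L'`-torsion element
    have hdy : W.d ((i : ℤ) - 1) (i : ℤ) y ∈ powTors L' (W.X i) := by
      have := sub_mem (mem_TTors_zeroLocus_iff.1 hx.1) (hmono hxy)
      rwa [sub_sub_cancel] at this
    have hL' : ∀ j : ℕ, j ≤ s → ∀ z ∈ TCy T W j, ∃ k : ℕ, ∀ r ∈ L' ^ k, r • z ∈ TBd T W j := fun j hj z hz => by
      obtain ⟨k, hk⟩ := hL j hj z hz
      exact ⟨k, fun r hr => hk r (Ideal.pow_right_mono h k hr)⟩
    obtain ⟨z, -, hyz⟩ := exists_sub_mem W hW T L' s hL' ((i : ℤ) - 1) (by omega) y hy (by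
      rw [show ((i : ℤ) - 1) + 1 = (i : ℤ) by omega]
      exact hdy)
    refine (mem_TBd _ W (j := (i : ℤ) - 1) (by omega)).2
      ⟨-(y - W.d ((i : ℤ) - 1 - 1) ((i : ℤ) - 1) z), mem_TTors_zeroLocus_iff.2 (neg_mem hyz), ?_⟩
    show W.d ((i : ℤ) - 1) (i : ℤ) (-(y - W.d ((i : ℤ) - 1 - 1) ((i : ℤ) - 1) z)) =
      x - W.d ((i : ℤ) - 1) (i : ℤ) y - x
    rw [map_neg, map_sub, show W.d ((i : ℤ) - 1) (i : ℤ) (W.d ((i : ℤ) - 1 - 1) ((i : ℤ) - 1) z) = 0 from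
      LinearMap.congr_fun (congrArg ModuleCat.Hom.hom (W.d_comp_d _ _ _)) z]
    abel

end Groth.Agent.ProZero27
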