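import Groth.Agent.Lib.ProZero27.Devissage
import Groth.Agent.Lib.Bootstrap27.Conditions
import Groth.Agent.Lib.Bootstrap27.CplBase
import Groth.Agent.Lib.Bootstrap27.CplKillSup
import Groth.Agent.Lib.HLV27.Main
import Groth.Agent.Lib.NormFib5.Basic
import Mathlib.RingTheory.Ideal.GoingDown
import Mathlib.RingTheory.TensorProduct.Quotient
import Mathlib.RingTheory.AdicCompletion.Functoriality
import Mathlib.RingTheory.AdicCompletion.Noetherian

/-!
# Vanishing of local cohomology of the quotients by primes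
-/

set_option autoImplicit false
universe u

open IsLocalRing TensorProduct

attribute [local instance] HasDerivedCategory.standard

noncomputable section

namespace Groth.Agent.ProZero27

open LocCohLib InjHullLib Bootstrap27

/-- Top local cohomology of a domain that is a quotient of an adically complete ring, with closed subset not
a point. -/
theorem subsingleton_H_top_of_complete_domain (B : Type u) [CommRing B] [IsLocalRing B] [IsNoetherianRing B]
    [IsDomain B] {A' : Type u} [CommRing A'] (π : A' →+* B) (hπ : Function.Surjective π) (J' : Ideal A')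
    [IsPrecomplete J' A'] (J : Ideal B) (hJ : J'.map π = J) (δ : ℕ) (hδ : ringKrullDim B = δ) (Q : Ideal B) [Q.IsPrime]
    (hJQ : J ≤ Q) (hQ : ¬ Q.IsMaximal) (N : Type u) [AddCommGroup N] [Module B N] (i : ℕ) (hi : δ ≤ i) :
    Subsingleton (LocCoh.H J i N) := by
  refine HLV27.vanishing J δ hδ (fun P hP hPd => ?_) N i hi
  by_contra hlt
  haveI := CplLocH7.isNoetherianRing_cpl B
  haveI := CplLocH7.faithfullyFlat_cpl B
  let Bh := AdicCompletion (maximalIdeal B) B
  haveI : P.IsPrime := hP.1.1
  let C := Bh ⧸ P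
  let φ : B →+* C := (Ideal.Quotient.mk P).comp (algebraMap B Bh)
  haveI : IsLocalRing C := IsLocalRing.of_surjective' (Ideal.Quotient.mk P) Ideal.Quotient.mk_surjective
  have hJm : J.map (algebraMap B Bh) ≤ maximalIdeal Bh := by
    rw [AdicCompletion.maximalIdeal_eq_map]
    exact Ideal.map_mono (hJQ.trans (le_maximalIdeal Ideal.IsPrime.ne_top'))
  -- every prime containing `J Bh ⊔ P` is maximal
  have hmax : ∀ W : Ideal Bh, W.IsPrime → J.map (algebraMap B Bh) ⊔ P ≤ W → W.IsMaximal := by
    intro W hW hle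
    by_contra hWm
    refine hlt ?_
    have hlt' : (⟨W, hW⟩ : PrimeSpectrum Bh) < ⟨maximalIdeal Bh, inferInstance⟩ :=
      lt_of_le_of_ne (IsLocalRing.le_maximalIdeal hW.ne_top) fun h =>
        hWm (by have e : W = maximalIdeal Bh := congrArg PrimeSpectrum.asIdeal h; rw [e]; exact maximalIdeal.isMaximal Bh)
    rw [ringKrullDim_quotient]
    let s : LTSeries (PrimeSpectrum.zeroLocus
        ((J.map (algebraMap B Bh) ⊔ P : Ideal Bh) : Set Bh)) :=
      { length := 1
        toFun := ![⟨⟨W, hW⟩, hle⟩, ⟨⟨maximalIdeal Bh, inferInstance⟩,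
          sup_le hJm (IsLocalRing.le_maximalIdeal Ideal.IsPrime.ne_top')⟩]
        step := fun k => by
          fin_cases k
          exact hlt' }
    exact_mod_cast Order.LTSeries.length_le_krullDim s
  have hrad : maximalIdeal Bh ≤ (J.map (algebraMap B Bh) ⊔ P).radical := by
    rw [Ideal.radical_eq_sInf]
    exact le_sInf fun W hW => (IsLocalRing.eq_maximalIdeal (hmax W hW.2 hW.1)).ge
  obtain ⟨k, hk⟩ := Ideal.exists_pow_le_of_le_radical_of_fg hrad (IsNoetherian.noetherian _)
  -- surjectivity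
  have hne : J.map φ ≠ ⊤ := by
    refine ne_top_of_le_ne_top (maximalIdeal.isMaximal C).ne_top ?_
    rw [← Ideal.map_map]
    refine (Ideal.map_mono hJm).trans ?_
    exact (IsLocalRing.map_maximalIdeal_of_surjective _ Ideal.Quotient.mk_surjective).le
  have hJφ : J'.map (φ.comp π) = J.map φ := by rw [← hJ, Ideal.map_map]
  haveI : IsHausdorff (J'.map (φ.comp π)) C := IsHausdorff.of_isLocalRing _ _ (hJφ ▸ hne)
  have hsurj : Function.Surjective φ := by
    refine Function.Surjective.of_comp (g := π) ?_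
    show Function.Surjective (φ.comp π)
    refine surjective_of_mk_map_comp_surjective (I := J') (φ.comp π) fun y => ?_
    obtain ⟨c, rfl⟩ := Ideal.Quotient.mk_surjective y
    obtain ⟨x, rfl⟩ := Ideal.Quotient.mk_surjective c
    obtain ⟨b, hb⟩ : ∃ b : B, x - algebraMap B Bh b ∈ maximalIdeal Bh ^ k := by
      obtain ⟨b, hb⟩ := Submodule.mkQ_surjective _ (AdicCompletion.eval (maximalIdeal B) B k x)
      refine ⟨b, ?_⟩
      rw [AdicCompletion.maximalIdeal_eq_map, ← Ideal.map_pow]
      show x - algebraMap B Bh b ∈ ((maximalIdeal B ^ k).map (algebraMap B Bh)).restrictScalars B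
      rw [← Ideal.smul_top_eq_map,
        AdicCompletion.pow_smul_top_eq_ker_eval (IsNoetherian.noetherian _), LinearMap.mem_ker, map_sub, ← hb]
      exact sub_self _
    obtain ⟨a, rfl⟩ := hπ b
    refine ⟨a, ?_⟩
    rw [RingHom.comp_apply, Ideal.Quotient.mk_eq_mk_iff_sub_mem, hJφ]
    obtain ⟨u, hu, v, hv, huv⟩ := Submodule.mem_sup.1 (hk hb)
    show Ideal.Quotient.mk P (algebraMap B Bh (π a)) - Ideal.Quotient.mk P x ∈ J.map φ
    rw [← map_sub, ← neg_sub x, ← huv, map_neg, map_add, Ideal.Quotient.eq_zero_iff_mem.2 hv, add_zero,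
      neg_mem_iff, ← Ideal.map_map]
    exact Ideal.mem_map_of_mem _ hu
  -- injectivity
  have hinj : RingHom.ker φ = ⊥ := by
    have h1 : RingHom.ker φ = P.comap (algebraMap B Bh) := by
      rw [RingHom.ker_eq_comap_bot, ← Ideal.comap_comap, ← RingHom.ker_eq_comap_bot, Ideal.mk_ker]
    rw [h1]
    haveI : P.LiesOver (P.comap (algebraMap B Bh)) := ⟨rfl⟩
    obtain ⟨P₀, hP₀, hP₀p, hlo⟩ := Ideal.exists_ideal_le_liesOver_of_le (p := (⊥ : Ideal B))
      (q := P.comap (algebraMap B Bh)) P bot_le
    have h2 : P ≤ P₀ := hP.2 ⟨hP₀p, bot_le⟩ hP₀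
    rw [hlo.over]
    exact congrArg (Ideal.comap (algebraMap B Bh)) (le_antisymm h2 hP₀)
  -- transfer of `Q`
  let e : B ≃+* C := RingEquiv.ofBijective φ ⟨(RingHom.injective_iff_ker_eq_bot φ).2 hinj, hsurj⟩
  let Q' : Ideal C := Q.comap (e.symm : C →+* B)
  haveI : Q'.IsPrime := Ideal.IsPrime.comap _
  have hQ' : J.map (algebraMap B Bh) ⊔ P ≤ Q'.comap (Ideal.Quotient.mk P) := by
    refine sup_le (Ideal.map_le_iff_le_comap.2 fun b hb => ?_) fun x hx => ?_
    · show e.symm (φ b) ∈ Q
      rw [show φ b = e b from rfl, e.symm_apply_apply]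
      exact hJQ hb
    · show e.symm (Ideal.Quotient.mk P x) ∈ Q
      rw [Ideal.Quotient.eq_zero_iff_mem.2 hx, map_zero]
      exact Q.zero_mem
  have h3 : Q'.IsMaximal := by
    have h4 := hmax _ (Ideal.IsPrime.comap _) hQ'
    have h5 := Ideal.IsMaximal.map_of_surjective_of_ker_le (f := Ideal.Quotient.mk P)
      Ideal.Quotient.mk_surjective (m := Q'.comap (Ideal.Quotient.mk P))
      (by rw [Ideal.mk_ker]; exact le_sup_right.trans hQ')
    rwa [Ideal.map_comap_of_surjective _ Ideal.Quotient.mk_surjective] at h5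
  refine hQ ?_
  have h6 : Q = Q'.comap (e : B →+* C) := by
    ext b
    show b ∈ Q ↔ e.symm (e b) ∈ Q
    rw [e.symm_apply_apply]
  rw [h6]
  exact Ideal.comap_isMaximal_of_surjective _ e.surjective

end Groth.Agent.ProZero27
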